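import Mathlib

/-!
# Fixed-point-free groups: pairs of elements of order three

`ρ` maps `G` into the units of a ring so that every `ρ g - 1` with `g ≠ 1` is a unit.  An element
`a` of order three then satisfies `a² + a + 1 = 0`, so `w a = 2a + 1` squares to `-3`, and two
such elements `a`, `b` have the invariant `w a * w b + w b * w a`, which commutes with both.
-/

set_option autoImplicit false

namespace Cfsg.Agent.Perm.Fpf

variable {G R : Type*} [Group G] [Ring R]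

/-- `a` has order three -/
def Ord3 (a : G) : Prop := a ^ 3 = 1 ∧ a ≠ 1

/-- The hypotheses on a fixed-point-free representation used by the algebra. -/
structure Hyp (ρ : G →* R) : Prop where
  unit : ∀ g : G, g ≠ 1 → IsUnit (ρ g - 1)
  nt : (1 : R) ≠ 0
  two : IsUnit (2 : R)
  three : IsUnit (3 : R)
  pair : ∀ a b : G, Ord3 a → Ord3 b → ¬ Commute a b →
    (a * b) ^ 4 = 1 ∨ (a * b) ^ 6 = 1 ∨ (a * b) ^ 10 = 1

/-- `2a + 1` -/
def w (ρ : G →* R) (a : G) : R := 2 * ρ a + 1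

/-- the invariant of a pair -/
def u (ρ : G →* R) (a b : G) : R := w ρ a * w ρ b + w ρ b * w ρ a

/-- `x + x⁻¹` -/
def tr (ρ : G →* R) (x : G) : R := ρ x + ρ x⁻¹

variable {ρ : G →* R}

theorem num_comm (n : ℕ) [n.AtLeastTwo] (X : R) : X * ofNat(n) = ofNat(n) * X :=
  (Nat.commute_cast X n).eq

theorem map_mul_inv_cancel (x : G) : ρ x * ρ x⁻¹ = 1 := by
  rw [← map_mul, mul_inv_cancel, map_one]

theorem map_inv_mul_cancel' (x : G) : ρ x⁻¹ * ρ x = 1 := by
  rw [← map_mul, inv_mul_cancel, map_one]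

section

variable (h : Hyp ρ)
include h

theorem Hyp.cancel {g : G} (hg : g ≠ 1) {X : R} (e : (ρ g - 1) * X = 0) : X = 0 :=
  (h.unit g hg).mul_right_eq_zero.1 e

theorem Hyp.inj {g : G} (e : ρ g = 1) : g = 1 := by
  by_contra hg
  have := h.cancel hg (X := 1) (by rw [e, sub_self, zero_mul])
  exact h.nt this

theorem Hyp.eq_of_map {g k : G} (e : ρ g = ρ k) : g = k := by
  refine mul_inv_eq_one.1 (h.inj ?_)
  rw [map_mul, e, map_mul_inv_cancel]

theorem Hyp.four : IsUnit (4 : R) := by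
  have e : (4 : R) = 2 * 2 := by norm_num
  rw [e]
  exact h.two.mul h.two

theorem Hyp.smul_two {X : R} (e : 2 * X = 0) : X = 0 := h.two.mul_right_eq_zero.1 e

theorem Hyp.smul_four {X : R} (e : 4 * X = 0) : X = 0 := h.four.mul_right_eq_zero.1 e

theorem Hyp.smul_three {X : R} (e : 3 * X = 0) : X = 0 := h.three.mul_right_eq_zero.1 e

theorem Hyp.two_ne : (2 : R) ≠ 0 := fun e => h.nt (h.smul_two (by rw [mul_one, e]))

theorem Hyp.three_ne : (3 : R) ≠ 0 := fun e => h.nt (h.smul_three (by rw [mul_one, e]))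

theorem Hyp.four_ne : (4 : R) ≠ 0 := fun e => h.nt (h.smul_four (by rw [mul_one, e]))

theorem Hyp.sum_eq_zero {a : G} (ha : Ord3 a) : ρ a * ρ a + ρ a + 1 = 0 := by
  apply h.cancel ha.2
  have e : ρ a * ρ a * ρ a = 1 := by rw [← map_mul, ← map_mul, ← pow_three', ha.1, map_one]
  have h2 : (ρ a - 1) * (ρ a * ρ a + ρ a + 1) = ρ a * ρ a * ρ a - 1 := by noncomm_ring
  rw [h2, e, sub_self]

end

theorem Ord3.inv {a : G} (ha : Ord3 a) : Ord3 a⁻¹ :=
  ⟨by rw [inv_pow, ha.1, inv_one], fun e => ha.2 (inv_eq_one.1 e)⟩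

theorem Ord3.conj {a : G} (ha : Ord3 a) (g : G) : Ord3 (g * a * g⁻¹) :=
  ⟨by rw [conj_pow, ha.1, mul_one, mul_inv_cancel], fun e => ha.2 (by
    have := congrArg (fun x => g⁻¹ * x * g) e
    simpa [mul_assoc] using this)⟩

theorem Ord3.inv_eq {a : G} (ha : Ord3 a) : a⁻¹ = a * a := by
  rw [inv_eq_iff_mul_eq_one, ← mul_assoc, ← pow_three', ha.1]

section

variable (h : Hyp ρ)
include h

theorem Hyp.map_inv3 {a : G} (ha : Ord3 a) : ρ a⁻¹ = -1 - ρ a := by
  rw [ha.inv_eq, map_mul, eq_sub_iff_add_eq, eq_neg_iff_add_eq_zero]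
  exact h.sum_eq_zero ha

theorem Hyp.w_sq {a : G} (ha : Ord3 a) : w ρ a * w ρ a = -3 := by
  have h2 : w ρ a * w ρ a = 4 * (ρ a * ρ a + ρ a + 1) - 3 := by
    rw [w]; noncomm_ring; norm_num
  rw [h2, h.sum_eq_zero ha, mul_zero, zero_sub]

theorem Hyp.w_inv {a : G} (ha : Ord3 a) : w ρ a⁻¹ = -w ρ a := by
  rw [w, w, h.map_inv3 ha]; noncomm_ring

theorem Hyp.w_inj {a b : G} (e : w ρ a = w ρ b) : a = b := by
  apply h.eq_of_map
  have : 2 * (ρ a - ρ b) = 0 := by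
    have h2 : 2 * (ρ a - ρ b) = w ρ a - w ρ b := by rw [w, w]; noncomm_ring
    rw [h2, e, sub_self]
  exact sub_eq_zero.1 (h.smul_two this)

theorem Hyp.u_self {a : G} (ha : Ord3 a) : u ρ a a = -6 := by
  rw [u, h.w_sq ha]; norm_num

theorem Hyp.u_inv_right {a b : G} (hb : Ord3 b) : u ρ a b⁻¹ = -u ρ a b := by
  rw [u, u, h.w_inv hb]; noncomm_ring

theorem Hyp.u_eq_tr {a b : G} (ha : Ord3 a) (hb : Ord3 b) :
    u ρ a b = 4 * tr ρ (a * b) - 2 := by
  rw [tr, map_mul, mul_inv_rev, map_mul, h.map_inv3 ha, h.map_inv3 hb, u, w, w]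
  noncomm_ring
  norm_num
  rw [show (4 : R) = 2 + 2 by norm_num]
  simp only [neg_smul, one_smul, add_mul]
  abel

theorem Hyp.u_comm_left {a b : G} (ha : Ord3 a) : Commute (u ρ a b) (w ρ a) := by
  have e1 : w ρ a * w ρ a * w ρ b = -(3 * w ρ b) := by rw [h.w_sq ha, neg_mul]
  have e2 : w ρ b * (w ρ a * w ρ a) = -(3 * w ρ b) := by
    rw [h.w_sq ha, mul_neg]
    exact congrArg Neg.neg (Nat.commute_cast (w ρ b) 3).eq
  show u ρ a b * w ρ a = w ρ a * u ρ a b
  rw [u, add_mul, mul_add, mul_assoc (w ρ b), e2, ← mul_assoc (w ρ a) (w ρ a), e1,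
    ← mul_assoc (w ρ a) (w ρ b) (w ρ a), add_comm]

theorem Hyp.sq_zero {y : G} (e : (ρ y - 1) * (ρ y - 1) = 0) : y = 1 := by
  by_contra hy
  exact hy (h.inj (sub_eq_zero.1 (h.cancel hy e)))

theorem Hyp.eq_one_of_tr {y : G} (e : tr ρ y = 2) : y = 1 := by
  apply h.sq_zero
  have h2 : (ρ y - 1) * (ρ y - 1) = ρ y * (tr ρ y - 2) := by
    rw [tr, mul_sub (ρ y), mul_add (ρ y), map_mul_inv_cancel]; noncomm_ring
  rw [h2, e, sub_self, mul_zero]

theorem Hyp.eq_neg_one {x : G} (h2 : x * x = 1) (h1 : x ≠ 1) : ρ x = -1 := by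
  rw [eq_neg_iff_add_eq_zero]
  apply h.cancel h1
  have e : (ρ x - 1) * (ρ x + 1) = ρ x * ρ x - 1 := by noncomm_ring
  rw [e, ← map_mul, h2, map_one, sub_self]

theorem Hyp.sq_ne_one {a b : G} (ha : Ord3 a) (hb : Ord3 b) (h1 : a * b ≠ 1) :
    a * b * (a * b) ≠ 1 := by
  intro h2
  have hx := h.eq_neg_one h2 h1
  rw [map_mul] at hx
  have hb' : ρ b = -ρ a⁻¹ := by
    calc ρ b = ρ a⁻¹ * (ρ a * ρ b) := by rw [← mul_assoc, map_inv_mul_cancel', one_mul]
      _ = -ρ a⁻¹ := by rw [hx, mul_neg, mul_one]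
  have h3 : ρ (b ^ 3) = -ρ (a⁻¹ ^ 3) := by
    rw [map_pow, map_pow, hb', pow_three', pow_three']; noncomm_ring
  rw [hb.1, ha.inv.1, map_one, eq_neg_iff_add_eq_zero, one_add_one_eq_two] at h3
  exact h.two_ne h3

theorem Hyp.tr_inv_right {a b : G} (ha : Ord3 a) (hb : Ord3 b) :
    tr ρ (a * b⁻¹) = 1 - tr ρ (a * b) := by
  have e := h.u_inv_right (a := a) hb
  rw [h.u_eq_tr ha hb, h.u_eq_tr ha hb.inv] at e
  have h2 : 4 * (tr ρ (a * b⁻¹) - (1 - tr ρ (a * b))) = 0 := by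
    have h3 : 4 * (tr ρ (a * b⁻¹) - (1 - tr ρ (a * b)))
        = (4 * tr ρ (a * b⁻¹) - 2) - -(4 * tr ρ (a * b) - 2) := by
      noncomm_ring; norm_num; abel
    rw [h3, e, sub_self]
  exact sub_eq_zero.1 (h.smul_four h2)

/-- the possible traces of the product of two elements of order three -/
theorem Hyp.tr_cases {a b : G} (ha : Ord3 a) (hb : Ord3 b) (hab : ¬ Commute a b) :
    tr ρ (a * b) = 0 ∨ tr ρ (a * b) = 1 ∨ (tr ρ (a * b) = -1 ∧ a = b) ∨
      tr ρ (a * b) * tr ρ (a * b) = tr ρ (a * b) + 1 ∨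
      tr ρ (a * b) * tr ρ (a * b) = -tr ρ (a * b) + 1 := by
  set x := a * b with hx
  have hx1 : x ≠ 1 := fun e => hab (by
    rw [eq_inv_of_mul_eq_one_right e]; exact Commute.inv_right (Commute.refl a))
  have hx2 : x * x ≠ 1 := h.sq_ne_one ha hb hx1
  have hp : ∀ n, x ^ n = 1 → ρ x ^ n = 1 := fun n e => by rw [← map_pow, e, map_one]
  have hXY := map_mul_inv_cancel (ρ := ρ) x
  have hYX := map_inv_mul_cancel' (ρ := ρ) x
  have hcxx : ∀ {Z : R}, (ρ x * ρ x - 1) * Z = 0 → Z = 0 := fun {Z} e =>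
    h.cancel hx2 (by rwa [map_mul])
  have htx : tr ρ x * ρ x = ρ x * ρ x + 1 := by rw [tr, add_mul, hYX]
  have hright : ∀ {Z : R}, Z * ρ x = 0 → Z = 0 := fun {Z} e => by
    calc Z = Z * (ρ x * ρ x⁻¹) := by rw [hXY, mul_one]
      _ = 0 := by rw [← mul_assoc, e, zero_mul]
  rcases h.pair a b ha hb hab with h4 | h6 | h10
  · left
    apply hright
    rw [htx]
    apply hcxx
    have e : (ρ x * ρ x - 1) * (ρ x * ρ x + 1) = ρ x ^ 4 - 1 := by noncomm_ring
    rw [e, hp 4 h4, sub_self]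
  · by_cases h3 : x ^ 3 = 1
    · have e1 : tr ρ x = -1 := by
        rw [eq_neg_iff_add_eq_zero]
        apply hright
        rw [add_mul, htx, one_mul]
        apply h.cancel hx1
        have e : (ρ x - 1) * (ρ x * ρ x + 1 + ρ x) = ρ x ^ 3 - 1 := by noncomm_ring
        rw [e, hp 3 h3, sub_self]
      refine Or.inr (Or.inr (Or.inl ⟨e1, mul_inv_eq_one.1 (h.eq_one_of_tr ?_)⟩))
      rw [h.tr_inv_right ha hb, e1]; norm_num
    · right; left
      rw [← sub_eq_zero]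
      apply hright
      rw [sub_mul, htx, one_mul]
      have hm : ρ (x ^ 3) = -1 := h.eq_neg_one (by rw [← pow_add, h6]) h3
      rw [map_pow] at hm
      apply hcxx
      have e : (ρ x * ρ x - 1) * (ρ x * ρ x + 1 - ρ x) = (ρ x - 1) * (ρ x ^ 3 + 1) := by
        noncomm_ring
      rw [e, hm, neg_add_cancel, mul_zero]
  · have hsq : tr ρ x * tr ρ x = ρ x * ρ x + ρ x⁻¹ * ρ x⁻¹ + 2 := by
      rw [tr, add_mul, mul_add, mul_add, hXY, hYX, ← one_add_one_eq_two]; abel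
    have hkey : ∀ {Z : R}, Z * (ρ x * ρ x) = 0 → Z = 0 := fun {Z} e =>
      hright (hright (by rw [mul_assoc]; exact e))
    have hyy : ρ x⁻¹ * ρ x⁻¹ * (ρ x * ρ x) = 1 := by
      rw [mul_assoc, ← mul_assoc (ρ x⁻¹) (ρ x), hYX, one_mul, hYX]
    have htxx : tr ρ x * (ρ x * ρ x) = ρ x * ρ x * ρ x + ρ x := by
      rw [← mul_assoc, htx, add_mul, one_mul]
    by_cases h5 : x ^ 5 = 1
    · refine Or.inr (Or.inr (Or.inr (Or.inr ?_)))
      rw [← sub_eq_zero]
      apply hkey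
      rw [sub_mul, hsq, add_mul, add_mul, hyy, add_mul, neg_mul, htxx, one_mul]
      apply h.cancel hx1
      have e : (ρ x - 1) * (ρ x * ρ x * (ρ x * ρ x) + 1 + 2 * (ρ x * ρ x)
          - (-(ρ x * ρ x * ρ x + ρ x) + ρ x * ρ x)) = ρ x ^ 5 - 1 := by noncomm_ring
      rw [e, hp 5 h5, sub_self]
    · refine Or.inr (Or.inr (Or.inr (Or.inl ?_)))
      rw [← sub_eq_zero]
      apply hkey
      rw [sub_mul, hsq, add_mul, add_mul, hyy, add_mul, htxx, one_mul]
      have hm : ρ (x ^ 5) = -1 := h.eq_neg_one (by rw [← pow_add, h10]) h5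
      rw [map_pow] at hm
      apply hcxx
      have e : (ρ x * ρ x - 1) * (ρ x * ρ x * (ρ x * ρ x) + 1 + 2 * (ρ x * ρ x)
          - ((ρ x * ρ x * ρ x + ρ x) + ρ x * ρ x)) = (ρ x - 1) * (ρ x ^ 5 + 1) := by noncomm_ring
      rw [e, hm, neg_add_cancel, mul_zero]

theorem Hyp.eq_or_inv_of_commute {a b : G} (ha : Ord3 a) (hb : Ord3 b) (hab : Commute a b) :
    b = a ∨ b = a⁻¹ := by
  have hz : (ρ b - ρ a) * (ρ b - ρ a⁻¹) = 0 := by
    have hc : ρ a * ρ b = ρ b * ρ a := by rw [← map_mul, ← map_mul, hab.eq]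
    rw [h.map_inv3 ha]
    have e : (ρ b - ρ a) * (ρ b - (-1 - ρ a)) = (ρ b * ρ b + ρ b + 1)
        - (ρ a * ρ a + ρ a + 1) + (ρ b * ρ a - ρ a * ρ b) := by noncomm_ring
    rw [e, h.sum_eq_zero ha, h.sum_eq_zero hb, hc]; abel
  refine or_iff_not_imp_left.2 fun hba => ?_
  have hba' : a⁻¹ * b ≠ 1 := fun e => hba (inv_mul_eq_one.1 e).symm
  have h0 : ρ b - ρ a⁻¹ = 0 := by
    apply h.cancel hba'
    calc (ρ (a⁻¹ * b) - 1) * (ρ b - ρ a⁻¹)
        = ρ a⁻¹ * ((ρ b - ρ a) * (ρ b - ρ a⁻¹)) := by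
          rw [map_mul, ← mul_assoc (ρ a⁻¹), mul_sub (ρ a⁻¹), map_inv_mul_cancel']
      _ = 0 := by rw [hz, mul_zero]
  exact h.eq_of_map (sub_eq_zero.1 h0)

/-- the possible invariants of a pair of elements of order three -/
theorem Hyp.u_cases {a b : G} (ha : Ord3 a) (hb : Ord3 b) :
    (u ρ a b = -6 ∧ b = a) ∨ (u ρ a b = 6 ∧ b = a⁻¹) ∨ u ρ a b = 2 ∨ u ρ a b = -2 ∨
      u ρ a b * u ρ a b = 20 := by
  by_cases hab : Commute a b
  · rcases h.eq_or_inv_of_commute ha hb hab with hb' | hb'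
    · exact Or.inl ⟨by rw [hb']; exact h.u_self ha, hb'⟩
    · refine Or.inr (Or.inl ⟨?_, hb'⟩)
      rw [hb', h.u_inv_right ha, h.u_self ha]; norm_num
  have hu := h.u_eq_tr ha hb
  rcases h.tr_cases ha hb hab with e | e | ⟨-, e⟩ | e | e
  · refine Or.inr (Or.inr (Or.inr (Or.inl ?_))); rw [hu, e]; noncomm_ring
  · refine Or.inr (Or.inr (Or.inl ?_)); rw [hu, e]; norm_num
  · exact absurd (e ▸ Commute.refl a) hab
  · refine Or.inr (Or.inr (Or.inr (Or.inr ?_)))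
    have e2 : u ρ a b * u ρ a b
        = 16 * (tr ρ (a * b) * tr ρ (a * b) - (tr ρ (a * b) + 1)) + 20 := by
      rw [hu]; noncomm_ring; norm_num
    rw [e2, e, sub_self, mul_zero, zero_add]
  · -- order five does not occur
    exfalso
    have hab' : ¬ Commute a b⁻¹ := fun hc => hab (by simpa using hc.inv_right)
    have ht := h.tr_inv_right ha hb
    set t := tr ρ (a * b) with htdef
    rcases h.tr_cases ha hb.inv hab' with f | f | ⟨-, f⟩ | f | f
    · rw [ht, sub_eq_zero] at f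
      rw [← f] at e
      exact h.nt (by
        have : (1 : R) * 1 - (-1 + 1) = 1 := by noncomm_ring
        rw [← this, e, sub_self])
    · rw [ht, sub_eq_self] at f
      rw [f] at e
      exact h.nt (by simpa using e.symm)
    · exact hab (by rw [f]; exact (Commute.refl b).inv_left)
    · rw [ht] at f
      have e4 : (t * t - (-t + 1)) - ((1 - t) * (1 - t) - (1 - t + 1)) = 2 * t := by noncomm_ring
      rw [e, f, sub_self, sub_self, sub_zero] at e4
      rw [h.smul_two e4.symm] at e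
      exact h.nt (by simpa using e.symm)
    · rw [ht] at f
      have e4 : (t * t - (-t + 1)) - ((1 - t) * (1 - t) - (-(1 - t) + 1)) = 2 * (2 * t - 1) := by
        noncomm_ring
      rw [e, f, sub_self, sub_self, sub_zero] at e4
      have h1 : 2 * t - 1 = 0 := h.smul_two e4.symm
      have e5 : (4 : R) * (t * t - (-t + 1)) = (2 * t - 1) * (2 * t - 1) + 4 * (2 * t - 1) - 1 := by
        noncomm_ring
      simp only [h1, e, sub_self, mul_zero, zero_mul, add_zero, zero_sub] at e5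
      exact h.nt (by simpa using e5.symm)

end

end Cfsg.Agent.Perm.Fpf
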