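import Mathlib

/-!
# A quaternion frame inside a ring

`I`, `J` square to `-1` and anticommute; every element is `x₀ + x₁ I + x₂ J + x₃ IJ` with
coefficients commuting with `I` and `J`.
-/

set_option autoImplicit false

namespace Cfsg.Agent.Perm.Fpf

variable {R : Type*} [Ring R]

/-- a quaternion frame -/
structure Frame (I J : R) : Prop where
  II : I * I = -1
  JJ : J * J = -1
  JI : J * I = -(I * J)

/-- the coefficient ring -/
def coeff (I J : R) : Subring R := Subring.centralizer {I, J}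

/-- the element with given coefficients -/
def qf (I J x0 x1 x2 x3 : R) : R := x0 + x1 * I + x2 * J + x3 * (I * J)

variable {I J : R}

theorem coeff_I {y : R} (hy : y ∈ coeff I J) : I * y = y * I :=
  Subring.mem_centralizer_iff.1 hy I (Or.inl rfl)

theorem coeff_J {y : R} (hy : y ∈ coeff I J) : J * y = y * J :=
  Subring.mem_centralizer_iff.1 hy J (Or.inr rfl)

theorem mem_coeff {y : R} (h1 : I * y = y * I) (h2 : J * y = y * J) : y ∈ coeff I J :=
  Subring.mem_centralizer_iff.2 (by rintro g (rfl | rfl) <;> assumption)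

theorem coeff_I' {y : R} (hy : y ∈ coeff I J) (Z : R) : I * (y * Z) = y * (I * Z) := by
  rw [← mul_assoc, coeff_I hy, mul_assoc]

theorem coeff_J' {y : R} (hy : y ∈ coeff I J) (Z : R) : J * (y * Z) = y * (J * Z) := by
  rw [← mul_assoc, coeff_J hy, mul_assoc]

theorem intCast_mem_coeff (n : ℤ) : (n : R) ∈ coeff I J := intCast_mem _ n

section

variable (h : Frame I J)
include h

theorem Frame.II' (Z : R) : I * (I * Z) = -Z := by rw [← mul_assoc, h.II, neg_one_mul]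

theorem Frame.JJ' (Z : R) : J * (J * Z) = -Z := by rw [← mul_assoc, h.JJ, neg_one_mul]

theorem Frame.JI' (Z : R) : J * (I * Z) = -(I * (J * Z)) := by
  rw [← mul_assoc, h.JI, neg_mul, mul_assoc]

theorem Frame.mul_qf {x0 x1 x2 x3 y0 y1 y2 y3 : R} (h0 : y0 ∈ coeff I J) (h1 : y1 ∈ coeff I J)
    (h2 : y2 ∈ coeff I J) (h3 : y3 ∈ coeff I J) :
    qf I J x0 x1 x2 x3 * qf I J y0 y1 y2 y3 =
      qf I J (x0 * y0 - x1 * y1 - x2 * y2 - x3 * y3) (x0 * y1 + x1 * y0 + x2 * y3 - x3 * y2)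
        (x0 * y2 - x1 * y3 + x2 * y0 + x3 * y1) (x0 * y3 + x1 * y2 - x2 * y1 + x3 * y0) := by
  simp only [qf, add_mul, sub_mul, mul_add, mul_assoc, coeff_I h0, coeff_J h0, coeff_I' h0,
    coeff_J' h0, coeff_I' h1, coeff_J' h1, coeff_I' h2, coeff_J' h2, coeff_I' h3, coeff_J' h3,
    coeff_I h1, coeff_J h1, coeff_I h2, coeff_J h2, coeff_I h3, coeff_J h3,
    h.II, h.JJ, h.JI, h.II', h.JJ', h.JI', neg_mul, mul_neg, neg_neg, mul_one]
  abel

theorem Frame.anti_qf {x0 x1 x2 x3 y0 y1 y2 y3 : R} (hx0 : x0 ∈ coeff I J)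
    (hx1 : x1 ∈ coeff I J) (hx2 : x2 ∈ coeff I J) (hx3 : x3 ∈ coeff I J) (h0 : y0 ∈ coeff I J)
    (h1 : y1 ∈ coeff I J) (h2 : y2 ∈ coeff I J) (h3 : y3 ∈ coeff I J) :
    qf I J x0 x1 x2 x3 * qf I J y0 y1 y2 y3 + qf I J y0 y1 y2 y3 * qf I J x0 x1 x2 x3 =
      qf I J ((x0 * y0 + y0 * x0) - (x1 * y1 + y1 * x1) - (x2 * y2 + y2 * x2) - (x3 * y3 + y3 * x3))
        ((x0 * y1 + y1 * x0) + (x1 * y0 + y0 * x1) + (x2 * y3 - y3 * x2) - (x3 * y2 - y2 * x3))
        ((x0 * y2 + y2 * x0) + (x2 * y0 + y0 * x2) + (x3 * y1 - y1 * x3) - (x1 * y3 - y3 * x1))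
        ((x0 * y3 + y3 * x0) + (x3 * y0 + y0 * x3) + (x1 * y2 - y2 * x1) - (x2 * y1 - y1 * x2)) := by
  rw [h.mul_qf h0 h1 h2 h3, h.mul_qf hx0 hx1 hx2 hx3]
  simp only [qf, add_mul, sub_mul]
  abel

theorem Frame.IJI : I * J * I = J := by rw [mul_assoc, h.JI, mul_neg, h.II', neg_neg]

theorem Frame.IJJ : I * J * J = -I := by rw [mul_assoc, h.JJ, mul_neg, mul_one]

theorem Frame.eq_zero (h2 : IsUnit (2 : R)) {x0 x1 x2 x3 : R} (h0 : x0 ∈ coeff I J)
    (h1 : x1 ∈ coeff I J) (hh2 : x2 ∈ coeff I J) (h3 : x3 ∈ coeff I J)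
    (e : qf I J x0 x1 x2 x3 = 0) : x0 = 0 ∧ x1 = 0 ∧ x2 = 0 ∧ x3 = 0 := by
  have half : ∀ {Z : R}, Z + Z = 0 → Z = 0 := fun {Z} eZ =>
    h2.mul_right_eq_zero.1 ((two_mul Z).trans eZ)
  have hIi : ∀ {y : R}, y * I = 0 → y = 0 := fun {y} ey => by
    have e2 := congrArg (· * I) ey
    simpa [mul_assoc, h.II] using e2
  -- conjugating by `I` changes the signs of `J` and `IJ`
  have c1 : qf I J x0 x1 x2 x3 - I * qf I J x0 x1 x2 x3 * I =
      (x0 + x1 * I) + (x0 + x1 * I) := by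
    simp only [qf, add_mul, mul_add, mul_assoc, coeff_I h0, coeff_I' h0, coeff_I' h1, coeff_I' hh2,
      coeff_I' h3, coeff_I h1, coeff_I hh2, coeff_I h3, h.II, h.JI, h.II', h.JI', neg_mul, mul_neg,
      neg_neg, mul_one]
    abel
  rw [e, mul_zero, zero_mul, sub_zero] at c1
  have e01 := half c1.symm
  have c2 : (x0 + x1 * I) - J * (x0 + x1 * I) * J = x0 + x0 := by
    simp only [add_mul, mul_add, mul_assoc, coeff_J h0, coeff_J' h0, coeff_J' h1, coeff_J h1, h.JJ, h.JI',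
      neg_mul, mul_neg, neg_neg, mul_one]
    abel
  rw [e01, mul_zero, zero_mul, sub_zero] at c2
  have e0 := half c2.symm
  have e1 : x1 = 0 := hIi (by rwa [e0, zero_add] at e01)
  rw [qf, e0, e1, zero_mul, zero_add, zero_add] at e
  have c3 : (x2 * J + x3 * (I * J)) - J * (x2 * J + x3 * (I * J)) * J = (x2 + x2) * J := by
    simp only [add_mul, mul_add, mul_assoc, coeff_J' hh2, coeff_J' h3, coeff_J hh2,
      coeff_J h3, h.JJ, h.JI', neg_mul, mul_neg, neg_neg, mul_one]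
    abel
  rw [e, mul_zero, zero_mul, sub_zero] at c3
  have hJj : ∀ {y : R}, y * J = 0 → y = 0 := fun {y} ey => by
    have e2 := congrArg (· * J) ey
    simpa [mul_assoc, h.JJ] using e2
  have e2 := half (hJj c3.symm)
  refine ⟨e0, e1, e2, ?_⟩
  rw [e2, zero_mul, zero_add, ← mul_assoc] at e
  exact hIi (hJj e)

theorem Frame.qf_inj (h2 : IsUnit (2 : R)) {x0 x1 x2 x3 y0 y1 y2 y3 : R} (hx0 : x0 ∈ coeff I J)
    (hx1 : x1 ∈ coeff I J) (hx2 : x2 ∈ coeff I J) (hx3 : x3 ∈ coeff I J) (h0 : y0 ∈ coeff I J)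
    (h1 : y1 ∈ coeff I J) (hy2 : y2 ∈ coeff I J) (h3 : y3 ∈ coeff I J)
    (e : qf I J x0 x1 x2 x3 = qf I J y0 y1 y2 y3) : x0 = y0 ∧ x1 = y1 ∧ x2 = y2 ∧ x3 = y3 := by
  have e' : qf I J (x0 - y0) (x1 - y1) (x2 - y2) (x3 - y3) = 0 := by
    rw [← sub_eq_zero.2 e]; simp only [qf, sub_mul]; abel
  obtain ⟨a, b, c, d⟩ := h.eq_zero h2 ((coeff I J).sub_mem hx0 h0) ((coeff I J).sub_mem hx1 h1)
    ((coeff I J).sub_mem hx2 hy2) ((coeff I J).sub_mem hx3 h3) e'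
  exact ⟨sub_eq_zero.1 a, sub_eq_zero.1 b, sub_eq_zero.1 c, sub_eq_zero.1 d⟩

/-- the projection to the coefficient ring, times four -/
theorem Frame.proj_mem (X : R) :
    X - I * X * I - J * X * J - I * J * X * (I * J) ∈ coeff I J := by
  refine mem_coeff ?_ ?_ <;>
  · simp only [sub_mul, mul_sub, mul_assoc, h.II, h.JJ, h.JI, h.II', h.JJ', h.JI', mul_neg, neg_neg,
      mul_one]
    abel

theorem Frame.exists_qf (h4 : IsUnit (4 : R)) (X : R) : ∃ x0 x1 x2 x3, x0 ∈ coeff I J ∧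
    x1 ∈ coeff I J ∧ x2 ∈ coeff I J ∧ x3 ∈ coeff I J ∧ X = qf I J x0 x1 x2 x3 := by
  obtain ⟨u, hu⟩ := h4
  set q : R := ((u⁻¹ : Rˣ) : R)
  have hq4 : q * 4 = 1 := by rw [← hu]; exact u.inv_mul
  have hc : ∀ Y : R, Commute q Y := fun Y => by
    refine Commute.units_inv_left ?_
    rw [hu]
    exact Nat.cast_commute 4 Y
  have hmem : ∀ Y : R, Y ∈ coeff I J → q * Y ∈ coeff I J := fun Y hY =>
    (coeff I J).mul_mem (mem_coeff (hc I).eq.symm (hc J).eq.symm) hY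
  refine ⟨_, _, _, _, hmem _ (h.proj_mem X), hmem _ (h.proj_mem (-(X * I))),
    hmem _ (h.proj_mem (-(X * J))), hmem _ (h.proj_mem (-(X * (I * J)))), ?_⟩
  simp only [qf, mul_assoc, ← mul_add]
  calc X = q * (4 * X) := by rw [← mul_assoc, hq4, one_mul]
    _ = _ := by
      congr 1
      simp only [sub_mul, mul_sub, neg_mul, mul_neg, mul_assoc, h.II, h.JJ, h.JI, h.II', h.JJ',
        h.JI', neg_neg, mul_one]
      rw [show (4 : R) = 1 + 1 + 1 + 1 by norm_num]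
      simp only [add_mul, one_mul]
      abel

end

end Cfsg.Agent.Perm.Fpf
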