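import Mathlib
import Cfsg.Agent.Lib.Perm.Fpf.Pairs
import Cfsg.Agent.Lib.Perm.Fpf.Quat

/-!
# The tetrahedral frame of a fixed-point-free group

Two non-commuting elements of order three give a quaternion frame `I`, `J` with
`w a = I + J + IJ`.  In such a frame every `w c` has vanishing scalar coefficient.
-/

set_option autoImplicit false

namespace Cfsg.Agent.Perm.Fpf

variable {G R : Type*} [Group G] [Ring R] {ρ : G →* R}

/-- a tetrahedral frame -/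
structure Tet (ρ : G →* R) (a gI gJ : G) : Prop where
  a3 : Ord3 a
  frame : Frame (ρ gI) (ρ gJ)
  wa : w ρ a = ρ gI + ρ gJ + ρ gI * ρ gJ
  rot : gJ = a⁻¹ * gI * a

theorem w_conj (g x : G) : w ρ (g * x * g⁻¹) = ρ g * w ρ x * ρ g⁻¹ := by
  rw [w, w, map_mul, map_mul, mul_add, add_mul, mul_one, map_mul_inv_cancel,
    ← mul_assoc (ρ g) (2 : R), show ρ g * 2 = 2 * ρ g from (Nat.cast_commute 2 (ρ g)).eq.symm,
    mul_assoc, mul_assoc, mul_assoc]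

theorem u_symm (a b : G) : u ρ a b = u ρ b a := by rw [u, u, add_comm]

section

variable (h : Hyp ρ)
include h

theorem Hyp.map_inv_of_sq {g : G} (e : ρ g * ρ g = -1) : ρ g⁻¹ = -ρ g := by
  calc ρ g⁻¹ = ρ g⁻¹ * -(ρ g * ρ g) := by rw [e, neg_neg, mul_one]
    _ = -ρ g := by rw [mul_neg, ← mul_assoc, map_inv_mul_cancel', one_mul]

theorem Hyp.sq_of_u {a b : G} (ha : Ord3 a) (hb : Ord3 b) (hu : u ρ a b = -2) :
    ρ (a * b) * ρ (a * b) = -1 := by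
  have ht : tr ρ (a * b) = 0 := by
    rw [h.u_eq_tr ha hb, sub_eq_neg_self] at hu
    exact h.smul_four hu
  have e : tr ρ (a * b) * ρ (a * b) = ρ (a * b) * ρ (a * b) + 1 := by
    rw [tr, add_mul, map_inv_mul_cancel']
  rw [ht, zero_mul] at e
  exact eq_neg_of_add_eq_zero_left e.symm

theorem Hyp.u_conj_of_twenty {a b : G} (ha : Ord3 a) (hb : Ord3 b)
    (hu : u ρ a b * u ρ a b = 20) : u ρ a (b * a * b⁻¹) = -2 := by
  set A := w ρ a with hA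
  set B := w ρ b with hB
  set U := u ρ a b with hU
  set C := w ρ (b * a * b⁻¹) with hC
  have hBAB : B * A * B = U * B + 3 * A := by
    rw [hU, u, add_mul, mul_assoc A, h.w_sq hb, mul_neg, num_comm 3 A]
    abel
  have hAU : A * U = U * A := (h.u_comm_left ha).eq.symm
  have h4 : 4 * C = -(U * B) - 2 * A + A * B - B * A := by
    have e1 : 2 * ρ b = B - 1 := by rw [hB, w, add_sub_cancel_right]
    have e2 : 2 * ρ b⁻¹ = -B - 1 := by rw [h.map_inv3 hb, hB, w]; noncomm_ring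
    have e3 : 4 * C = (2 * ρ b) * A * (2 * ρ b⁻¹) := by
      rw [hC, w_conj]; noncomm_ring
    rw [e3, e1, e2]
    have e4 : (B - 1) * A * (-B - 1) = -(B * A * B) + A + (A * B - B * A) := by noncomm_ring
    rw [e4, hBAB]
    noncomm_ring
  have e : 4 * u ρ a (b * a * b⁻¹) = A * (4 * C) + (4 * C) * A := by
    rw [u]; simp only [← hA, ← hC]; noncomm_ring
  have e' : A * (4 * C) + (4 * C) * A
      = -(A * U * B) - U * B * A - 4 * (A * A) + A * A * B - B * (A * A) := by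
    rw [h4]; noncomm_ring
  rw [e', hAU, h.w_sq ha] at e
  have e'' : -(U * A * B) - U * B * A - 4 * (-3 : R) + -3 * B - B * -3
      = -(U * U) + 12 := by
    have : U * U = U * (A * B + B * A) := by rw [hU, u]
    rw [this]; noncomm_ring; norm_num
  rw [e'', hu] at e
  have e5 : 4 * (u ρ a (b * a * b⁻¹) + 2) = 0 := by
    rw [mul_add, e]; norm_num
  exact eq_neg_of_add_eq_zero_left (h.smul_four e5)

theorem Hyp.tet_of_u {a b : G} (ha : Ord3 a) (hb : Ord3 b) (hu : u ρ a b = -2) :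
    Tet ρ a (a * b)⁻¹ (a⁻¹ * (a * b)⁻¹ * a) := by
  have hx := h.sq_of_u ha hb hu
  set gI := (a * b)⁻¹ with hgI
  have hI : ρ gI * ρ gI = -1 := by rw [hgI, h.map_inv_of_sq hx, neg_mul_neg, hx]
  set I := ρ gI with hIdef
  set A := w ρ a with hA
  set J := ρ (a⁻¹ * gI * a) with hJdef
  have hAA : A * A = -3 := h.w_sq ha
  have hAI : A * I = -2 - I * A := by
    have e1 : ρ a * ρ (a * b) * 1 + ρ (a * b) * ρ a + ρ (a * b) = 1 := by
      have e2 : ρ (a * b) * ρ a = -ρ b⁻¹ := by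
        calc ρ (a * b) * ρ a = ρ (a * b) * ρ a * (ρ b * ρ b⁻¹) := by
              rw [map_mul_inv_cancel, mul_one]
          _ = ρ (a * b) * ρ (a * b) * ρ b⁻¹ := by rw [map_mul]; simp only [mul_assoc]
          _ = _ := by rw [hx, neg_one_mul]
      rw [e2, h.map_inv3 hb, mul_one, map_mul, ← mul_assoc]
      have e3 : ρ a * ρ a * ρ b + -(-1 - ρ b) + ρ a * ρ b
          = (ρ a * ρ a + ρ a + 1) * ρ b + 1 := by noncomm_ring
      rw [e3, h.sum_eq_zero ha, zero_mul, zero_add]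
    have hIx : I = -ρ (a * b) := h.map_inv_of_sq hx
    rw [eq_sub_iff_add_eq, hA, w, hIx]
    have e4 : (2 * ρ a + 1) * -ρ (a * b) + -ρ (a * b) * (2 * ρ a + 1)
        = -(2 * (ρ a * ρ (a * b) * 1 + ρ (a * b) * ρ a + ρ (a * b))) := by noncomm_ring
    rw [e4, e1, mul_one]
  have hAIA : A * I * A = 3 * I - 2 * A := by
    rw [hAI, sub_mul, mul_assoc, hAA, mul_neg, num_comm 3 I]
    simp only [neg_mul]
    abel
  have h2J : 2 * J = A - I - 1 - I * A := by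
    have e1 : 2 * ρ a = A - 1 := by rw [hA, w, add_sub_cancel_right]
    have e2 : 2 * ρ a⁻¹ = -A - 1 := by rw [h.map_inv3 ha, hA, w]; noncomm_ring
    have e3 : 2 * (2 * J) = (2 * ρ a⁻¹) * I * (2 * ρ a) := by
      rw [hJdef, map_mul, map_mul]; noncomm_ring
    rw [e1, e2] at e3
    have e4 : (-A - 1) * I * (A - 1) = -(A * I * A) + A * I - I * A + I := by noncomm_ring
    rw [e4, hAIA, hAI] at e3
    refine sub_eq_zero.1 (h.smul_two ?_)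
    rw [mul_sub, e3]; noncomm_ring; norm_num
  have hJJ : J * J = -1 := by
    rw [hJdef, ← map_mul, show a⁻¹ * gI * a * (a⁻¹ * gI * a) = a⁻¹ * (gI * gI) * a by group,
      map_mul, map_mul, map_mul, hI, mul_neg, mul_one, neg_mul, map_inv_mul_cancel']
  have hII : ∀ Z : R, I * (I * Z) = -Z := fun Z => by rw [← mul_assoc, hI, neg_one_mul]
  have hJI : J * I = -(I * J) := by
    refine sub_eq_zero.1 (h.smul_two ?_)
    have e : 2 * (J * I - -(I * J)) = (2 * J) * I + I * (2 * J) := by noncomm_ring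
    rw [e, h2J]
    have e2 : (A - I - 1 - I * A) * I + I * (A - I - 1 - I * A)
        = A * I + I * A - 2 * (I * I) - 2 * I - I * (A * I) - I * (I * A) := by noncomm_ring
    rw [e2, hAI, hI, hII]
    have e3 : I * (-2 - I * A) = -(2 * I) - I * (I * A) := by noncomm_ring
    rw [e3, hII]
    noncomm_ring
    norm_num
  refine ⟨ha, ⟨hI, hJJ, hJI⟩, ?_, rfl⟩
  refine sub_eq_zero.1 (h.smul_two ?_)
  have e : 2 * (A - (I + J + I * J)) = 2 * A - 2 * I - 2 * J - I * (2 * J) := by noncomm_ring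
  rw [e, h2J]
  have e2 : 2 * A - 2 * I - (A - I - 1 - I * A) - I * (A - I - 1 - I * A)
      = A + 1 + I * I + I * (I * A) := by noncomm_ring
  rw [e2, hI, hII]
  abel

/-- two non-commuting elements of order three generate a group with a tetrahedral frame -/
theorem Hyp.exists_tet {a b : G} (ha : Ord3 a) (hb : Ord3 b) (hab : ¬ Commute a b) :
    ∃ gI gJ, Tet ρ a gI gJ ∧ gI ∈ Subgroup.closure {a, b} ∧ gJ ∈ Subgroup.closure {a, b} := by
  have haM : a ∈ Subgroup.closure ({a, b} : Set G) := Subgroup.subset_closure (Or.inl rfl)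
  have hbM : b ∈ Subgroup.closure ({a, b} : Set G) := Subgroup.subset_closure (Or.inr rfl)
  have key : ∀ c, Ord3 c → c ∈ Subgroup.closure ({a, b} : Set G) → u ρ a c = -2 →
      ∃ gI gJ, Tet ρ a gI gJ ∧ gI ∈ Subgroup.closure {a, b} ∧ gJ ∈ Subgroup.closure {a, b} :=
    fun c hc hcM hu => ⟨_, _, h.tet_of_u ha hc hu, inv_mem (mul_mem haM hcM),
      mul_mem (mul_mem (inv_mem haM) (inv_mem (mul_mem haM hcM))) haM⟩
  rcases h.u_cases ha hb with ⟨-, e⟩ | ⟨-, e⟩ | e | e | e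
  · exact absurd (e ▸ Commute.refl a) hab
  · exact absurd (e ▸ (Commute.refl a).inv_right) hab
  · exact key _ hb.inv (inv_mem hbM) (by rw [h.u_inv_right hb, e])
  · exact key _ hb hbM e
  · exact key _ (ha.conj b) (mul_mem (mul_mem hbM haM) (inv_mem hbM)) (h.u_conj_of_twenty ha hb e)

end

/-! ### Conjugation in a frame -/

section

variable {a gI gJ : G} (h : Hyp ρ) (T : Tet ρ a gI gJ)
include h T

theorem Tet.coeff_comm {y : R} (hy : y ∈ coeff (ρ gI) (ρ gJ)) : ρ a * y = y * ρ a := by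
  refine sub_eq_zero.1 (h.smul_two ?_)
  have e : 2 * (ρ a * y - y * ρ a) = (w ρ a) * y - y * (w ρ a) := by rw [w]; noncomm_ring
  rw [e, T.wa]
  simp only [add_mul, mul_add, mul_assoc, coeff_I hy, coeff_J hy, coeff_I' hy]
  abel

theorem Tet.coeff_comm_inv {y : R} (hy : y ∈ coeff (ρ gI) (ρ gJ)) : ρ a⁻¹ * y = y * ρ a⁻¹ := by
  rw [h.map_inv3 T.a3, sub_mul, mul_sub, T.coeff_comm h hy, neg_one_mul, mul_neg_one]

theorem Tet.rot_I : ρ a⁻¹ * ρ gI * ρ a = ρ gJ := by rw [← map_mul, ← map_mul, ← T.rot]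

theorem Tet.rot_J : ρ a⁻¹ * ρ gJ * ρ a = ρ gI * ρ gJ := by
  refine sub_eq_zero.1 (h.smul_four ?_)
  have e : 4 * (ρ a⁻¹ * ρ gJ * ρ a - ρ gI * ρ gJ)
      = (-w ρ a - 1) * ρ gJ * (w ρ a - 1) - 4 * (ρ gI * ρ gJ) := by
    rw [h.map_inv3 T.a3, w]; noncomm_ring
  rw [e, T.wa]
  have F := T.frame
  simp only [add_mul, mul_add, sub_mul, mul_sub, neg_mul, mul_neg, neg_add, mul_assoc, one_mul,
    mul_one, F.II, F.JJ, F.JI, F.II', F.JJ', F.JI', neg_neg]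
  rw [show (4 : R) = 1 + 1 + 1 + 1 by norm_num]
  simp only [add_mul, one_mul]
  abel

theorem Tet.rot_qf {x0 x1 x2 x3 : R} (h0 : x0 ∈ coeff (ρ gI) (ρ gJ))
    (h1 : x1 ∈ coeff (ρ gI) (ρ gJ)) (h2 : x2 ∈ coeff (ρ gI) (ρ gJ))
    (h3 : x3 ∈ coeff (ρ gI) (ρ gJ)) :
    ρ a⁻¹ * qf (ρ gI) (ρ gJ) x0 x1 x2 x3 * ρ a = qf (ρ gI) (ρ gJ) x0 x3 x1 x2 := by
  have F := T.frame
  have hK : ρ a⁻¹ * (ρ gI * ρ gJ) * ρ a = ρ gI := by
    calc ρ a⁻¹ * (ρ gI * ρ gJ) * ρ a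
        = (ρ a⁻¹ * ρ gI * ρ a) * (ρ a⁻¹ * ρ gJ * ρ a) := by
          simp only [mul_assoc]
          rw [← mul_assoc (ρ a) (ρ a⁻¹), map_mul_inv_cancel, one_mul]
      _ = _ := by rw [T.rot_I h, T.rot_J h, ← mul_assoc, F.JI, neg_mul, F.IJJ, neg_neg]
  have hs : ∀ {y Z : R}, y ∈ coeff (ρ gI) (ρ gJ) →
      ρ a⁻¹ * (y * Z) * ρ a = y * (ρ a⁻¹ * Z * ρ a) := fun {y Z} hy => by
    rw [← mul_assoc, T.coeff_comm_inv h hy]; simp only [mul_assoc]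
  have h0' : ρ a⁻¹ * x0 * ρ a = x0 := by
    rw [T.coeff_comm_inv h h0, mul_assoc, map_inv_mul_cancel', mul_one]
  simp only [qf, mul_add, add_mul, h0', hs h1, hs h2, hs h3, T.rot_I h, T.rot_J h, hK]
  abel

theorem Tet.w_rot {c : G} {x0 x1 x2 x3 : R} (h0 : x0 ∈ coeff (ρ gI) (ρ gJ))
    (h1 : x1 ∈ coeff (ρ gI) (ρ gJ)) (h2 : x2 ∈ coeff (ρ gI) (ρ gJ))
    (h3 : x3 ∈ coeff (ρ gI) (ρ gJ)) (hc : w ρ c = qf (ρ gI) (ρ gJ) x0 x1 x2 x3) :
    w ρ (a⁻¹ * c * a) = qf (ρ gI) (ρ gJ) x0 x3 x1 x2 := by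
  have := w_conj (ρ := ρ) a⁻¹ c
  rw [inv_inv] at this
  rw [this, hc, T.rot_qf h h0 h1 h2 h3]

theorem Tet.w_conjI {c : G} {x0 x1 x2 x3 : R} (h0 : x0 ∈ coeff (ρ gI) (ρ gJ))
    (h1 : x1 ∈ coeff (ρ gI) (ρ gJ)) (h2 : x2 ∈ coeff (ρ gI) (ρ gJ))
    (h3 : x3 ∈ coeff (ρ gI) (ρ gJ)) (hc : w ρ c = qf (ρ gI) (ρ gJ) x0 x1 x2 x3) :
    w ρ (gI * c * gI⁻¹) = qf (ρ gI) (ρ gJ) x0 x1 (-x2) (-x3) := by
  have F := T.frame
  rw [w_conj, h.map_inv_of_sq F.II, hc]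
  simp only [qf, mul_add, add_mul, neg_mul, mul_neg, mul_assoc, coeff_I h0, coeff_I h1, coeff_I h2,
    coeff_I h3, coeff_I' h0, coeff_I' h1, coeff_I' h2, coeff_I' h3, F.II, F.JJ, F.JI, F.II', F.JJ',
    F.JI', neg_neg, mul_one]
  abel

theorem Tet.w_conjJ {c : G} {x0 x1 x2 x3 : R} (h0 : x0 ∈ coeff (ρ gI) (ρ gJ))
    (h1 : x1 ∈ coeff (ρ gI) (ρ gJ)) (h2 : x2 ∈ coeff (ρ gI) (ρ gJ))
    (h3 : x3 ∈ coeff (ρ gI) (ρ gJ)) (hc : w ρ c = qf (ρ gI) (ρ gJ) x0 x1 x2 x3) :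
    w ρ (gJ * c * gJ⁻¹) = qf (ρ gI) (ρ gJ) x0 (-x1) x2 (-x3) := by
  have F := T.frame
  rw [w_conj, h.map_inv_of_sq F.JJ, hc]
  simp only [qf, mul_add, add_mul, neg_mul, mul_neg, mul_assoc, coeff_J h0, coeff_J h1, coeff_J h2,
    coeff_J h3, coeff_J' h0, coeff_J' h1, coeff_J' h2, coeff_J' h3, F.II, F.JJ, F.JI, F.II', F.JJ',
    F.JI', neg_neg, mul_one]
  abel

/-- the equations of `w c * w c = -3` -/
theorem Tet.sq_eqs {c : G} (hc3 : Ord3 c) {x0 x1 x2 x3 : R} (h0 : x0 ∈ coeff (ρ gI) (ρ gJ))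
    (h1 : x1 ∈ coeff (ρ gI) (ρ gJ)) (h2 : x2 ∈ coeff (ρ gI) (ρ gJ))
    (h3 : x3 ∈ coeff (ρ gI) (ρ gJ)) (hc : w ρ c = qf (ρ gI) (ρ gJ) x0 x1 x2 x3) :
    x0 * x0 - x1 * x1 - x2 * x2 - x3 * x3 = -3 ∧
      x0 * x1 + x1 * x0 + (x2 * x3 - x3 * x2) = 0 ∧
      x0 * x2 + x2 * x0 + (x3 * x1 - x1 * x3) = 0 ∧
      x0 * x3 + x3 * x0 + (x1 * x2 - x2 * x1) = 0 := by
  have F := T.frame
  set S := coeff (ρ gI) (ρ gJ)
  have e := h.w_sq hc3
  rw [hc, F.mul_qf h0 h1 h2 h3] at e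
  have e3 : (-3 : R) = qf (ρ gI) (ρ gJ) (-3) 0 0 0 := by simp [qf]
  rw [e3] at e
  have hz : (0 : R) ∈ S := S.zero_mem
  obtain ⟨q0, q1, q2, q3⟩ := F.qf_inj h.two
    (S.sub_mem (S.sub_mem (S.sub_mem (S.mul_mem h0 h0) (S.mul_mem h1 h1)) (S.mul_mem h2 h2))
      (S.mul_mem h3 h3))
    (S.sub_mem (S.add_mem (S.add_mem (S.mul_mem h0 h1) (S.mul_mem h1 h0)) (S.mul_mem h2 h3))
      (S.mul_mem h3 h2))
    (S.add_mem (S.add_mem (S.sub_mem (S.mul_mem h0 h2) (S.mul_mem h1 h3)) (S.mul_mem h2 h0))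
      (S.mul_mem h3 h1))
    (S.add_mem (S.sub_mem (S.add_mem (S.mul_mem h0 h3) (S.mul_mem h1 h2)) (S.mul_mem h2 h1))
      (S.mul_mem h3 h0))
    (S.neg_mem (by exact_mod_cast natCast_mem S 3)) hz hz hz e
  refine ⟨q0, ?_, ?_, ?_⟩
  · rw [← q1]; abel
  · rw [← q2]; abel
  · rw [← q3]; abel

/-- the invariant of the axis `a` -/
theorem Tet.axis {c : G} (hc3 : Ord3 c) {x0 x1 x2 x3 : R} (h0 : x0 ∈ coeff (ρ gI) (ρ gJ))
    (h1 : x1 ∈ coeff (ρ gI) (ρ gJ)) (h2 : x2 ∈ coeff (ρ gI) (ρ gJ))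
    (h3 : x3 ∈ coeff (ρ gI) (ρ gJ)) (hc : w ρ c = qf (ρ gI) (ρ gJ) x0 x1 x2 x3) :
    x0 * (x1 + x2 + x3) + (x1 + x2 + x3) * x0 = 0 ∧
      ((x0 = 0 ∧ ((c = a ∨ c = a⁻¹) ∨ x1 + x2 + x3 = 1 ∨ x1 + x2 + x3 = -1)) ∨
        (x1 + x2 + x3) * (x1 + x2 + x3) - 3 * (x0 * x0) = 5) := by
  have F := T.frame
  set S := coeff (ρ gI) (ρ gJ)
  set s := x1 + x2 + x3 with hs
  have hsS : s ∈ S := S.add_mem (S.add_mem h1 h2) h3
  have hn : ∀ n : ℕ, (n : R) ∈ S := fun n => natCast_mem S n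
  have h2S : (2 : R) ∈ S := by exact_mod_cast hn 2
  have hA : w ρ a = qf (ρ gI) (ρ gJ) 0 1 1 1 := by rw [T.wa]; simp [qf]
  have hu : u ρ a c = qf (ρ gI) (ρ gJ) (-(2 * s)) (2 * x0) (2 * x0) (2 * x0) := by
    rw [u, hA, hc, F.anti_qf S.zero_mem S.one_mem S.one_mem S.one_mem h0 h1 h2 h3, hs]
    simp only [zero_mul, mul_zero, one_mul, mul_one, sub_self, add_zero, zero_add, sub_zero,
      two_mul]
    simp only [qf, add_mul, sub_mul, neg_mul, neg_add]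
    abel
  have hsc : ∀ m : R, m ∈ S → u ρ a c = m → -(2 * s) = m ∧ 2 * x0 = 0 := fun m hm e => by
    have e' : qf (ρ gI) (ρ gJ) (-(2 * s)) (2 * x0) (2 * x0) (2 * x0)
        = qf (ρ gI) (ρ gJ) m 0 0 0 := by rw [← hu, e]; simp [qf]
    obtain ⟨a', b', -, -⟩ := F.qf_inj h.two (S.neg_mem (S.mul_mem h2S hsS)) (S.mul_mem h2S h0)
      (S.mul_mem h2S h0) (S.mul_mem h2S h0) hm S.zero_mem S.zero_mem S.zero_mem e'
    exact ⟨a', b'⟩
  have hscalar : ∀ m : R, m ∈ S → u ρ a c = m → x0 = 0 := fun m hm e =>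
    h.smul_two (hsc m hm e).2
  rcases h.u_cases T.a3 hc3 with ⟨e, e'⟩ | ⟨e, e'⟩ | e | e | e
  · have := hscalar _ (S.neg_mem (by exact_mod_cast hn 6)) e
    exact ⟨by simp [this], Or.inl ⟨this, Or.inl (Or.inl e')⟩⟩
  · have := hscalar _ (by exact_mod_cast hn 6) e
    exact ⟨by simp [this], Or.inl ⟨this, Or.inl (Or.inr e')⟩⟩
  · obtain ⟨q, -⟩ := hsc _ h2S e
    have := hscalar _ h2S e
    refine ⟨by simp [this], Or.inl ⟨this, Or.inr (Or.inr ?_)⟩⟩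
    refine eq_neg_of_add_eq_zero_left (h.smul_two ?_)
    rw [mul_add, mul_one, neg_eq_iff_eq_neg.1 q, neg_add_cancel]
  · obtain ⟨q, -⟩ := hsc _ (S.neg_mem h2S) e
    have := hscalar _ (S.neg_mem h2S) e
    refine ⟨by simp [this], Or.inl ⟨this, Or.inr (Or.inl ?_)⟩⟩
    refine sub_eq_zero.1 (h.smul_two ?_)
    rw [mul_sub, mul_one, neg_inj.1 q, sub_self]
  · rw [hu, F.mul_qf (S.neg_mem (S.mul_mem h2S hsS)) (S.mul_mem h2S h0) (S.mul_mem h2S h0)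
      (S.mul_mem h2S h0)] at e
    set v := 2 * x0 with hv
    have hvS : v ∈ S := S.mul_mem h2S h0
    have hns : -(2 * s) ∈ S := S.neg_mem (S.mul_mem h2S hsS)
    have e20 : (20 : R) = qf (ρ gI) (ρ gJ) 20 0 0 0 := by simp [qf]
    rw [e20] at e
    have h20 : (20 : R) ∈ S := by exact_mod_cast hn 20
    obtain ⟨q0, q1, -, -⟩ := F.qf_inj h.two
      (S.sub_mem (S.sub_mem (S.sub_mem (S.mul_mem hns hns) (S.mul_mem hvS hvS)) (S.mul_mem hvS hvS))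
        (S.mul_mem hvS hvS))
      (S.sub_mem (S.add_mem (S.add_mem (S.mul_mem hns hvS) (S.mul_mem hvS hns)) (S.mul_mem hvS hvS))
        (S.mul_mem hvS hvS))
      (S.add_mem (S.add_mem (S.sub_mem (S.mul_mem hns hvS) (S.mul_mem hvS hvS)) (S.mul_mem hvS hns))
        (S.mul_mem hvS hvS))
      (S.add_mem (S.sub_mem (S.add_mem (S.mul_mem hns hvS) (S.mul_mem hvS hvS)) (S.mul_mem hvS hvS))
        (S.mul_mem hvS hns))
      h20 S.zero_mem S.zero_mem S.zero_mem e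
    refine ⟨h.smul_four ?_, Or.inr (sub_eq_zero.1 (h.smul_four ?_))⟩
    · have : 4 * (x0 * s + s * x0) = -(-(2 * s) * v + v * -(2 * s) + v * v - v * v) := by
        rw [hv]; noncomm_ring
      rw [this, q1, neg_zero]
    · have : 4 * (s * s - 3 * (x0 * x0) - 5)
          = (-(2 * s) * -(2 * s) - v * v - v * v - v * v) - 20 := by
        rw [hv]; noncomm_ring; norm_num
      rw [this, q0, sub_self]

end

end Cfsg.Agent.Perm.Fpf
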