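import Mathlib
import Cfsg.Agent.Lib.Perm.Fpf.Tetra

/-!
# The normal form of the elements of order three in a tetrahedral frame

Every element of order three is, up to conjugation in the frame and inversion, either the axis
`a` or an element with `w d = α J + (1 - α) IJ`, `α² = α + 1`; and there is only one of the latter.
-/

set_option autoImplicit false

namespace Cfsg.Agent.Perm.Fpf

variable {G R : Type*} [Group G] [Ring R] {ρ : G →* R} {a gI gJ : G}

/-- conjugate, up to inversion, by an element of the frame -/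
def Reach (a gI gJ c c' : G) : Prop :=
  ∃ g ∈ Subgroup.closure ({a, gI, gJ} : Set G), c' = g * c * g⁻¹ ∨ c' = g * c⁻¹ * g⁻¹

theorem Reach.refl (c : G) : Reach a gI gJ c c := ⟨1, one_mem _, Or.inl (by simp)⟩

theorem Reach.inv (c : G) : Reach a gI gJ c c⁻¹ := ⟨1, one_mem _, Or.inr (by simp)⟩

theorem Reach.conj {g : G} (hg : g ∈ Subgroup.closure ({a, gI, gJ} : Set G)) (c : G) :
    Reach a gI gJ c (g * c * g⁻¹) := ⟨g, hg, Or.inl rfl⟩

theorem Reach.trans {c c' c'' : G} (h1 : Reach a gI gJ c c') (h2 : Reach a gI gJ c' c'') :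
    Reach a gI gJ c c'' := by
  obtain ⟨g, hg, h1⟩ := h1
  obtain ⟨k, hk, h2⟩ := h2
  refine ⟨k * g, mul_mem hk hg, ?_⟩
  rcases h1 with rfl | rfl <;> rcases h2 with rfl | rfl
  · left; group
  · right; group
  · right; group
  · left; group

theorem Reach.symm {c c' : G} (h1 : Reach a gI gJ c c') : Reach a gI gJ c' c := by
  obtain ⟨g, hg, rfl | rfl⟩ := h1
  · exact ⟨g⁻¹, inv_mem hg, Or.inl (by group)⟩
  · exact ⟨g⁻¹, inv_mem hg, Or.inr (by group)⟩

theorem Reach.ord3 {c c' : G} (h1 : Reach a gI gJ c c') (hc : Ord3 c) : Ord3 c' := by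
  obtain ⟨g, -, rfl | rfl⟩ := h1
  exacts [hc.conj g, hc.inv.conj g]

theorem mem_a : a ∈ Subgroup.closure ({a, gI, gJ} : Set G) :=
  Subgroup.subset_closure (Or.inl rfl)

theorem mem_gI : gI ∈ Subgroup.closure ({a, gI, gJ} : Set G) :=
  Subgroup.subset_closure (Or.inr (Or.inl rfl))

theorem mem_gJ : gJ ∈ Subgroup.closure ({a, gI, gJ} : Set G) :=
  Subgroup.subset_closure (Or.inr (Or.inr rfl))

/-- the golden normal form -/
def Gold (ρ : G →* R) (gI gJ c : G) (α : R) : Prop :=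
  α ∈ coeff (ρ gI) (ρ gJ) ∧ α * α = α + 1 ∧ w ρ c = qf (ρ gI) (ρ gJ) 0 0 α (1 - α)

section

variable (h : Hyp ρ) (T : Tet ρ a gI gJ)
include h

theorem Hyp.u_conj_scalar {g x y : G} {n : ℤ} (e : u ρ x y = n) :
    u ρ (g * x * g⁻¹) (g * y * g⁻¹) = n := by
  have e2 : u ρ (g * x * g⁻¹) (g * y * g⁻¹) = ρ g * u ρ x y * ρ g⁻¹ := by
    rw [u, u, w_conj, w_conj]
    have hgg : ∀ Z : R, ρ g⁻¹ * (ρ g * Z) = Z := fun Z => by
      rw [← mul_assoc, map_inv_mul_cancel', one_mul]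
    simp only [mul_add, add_mul, mul_assoc, hgg]
  rw [e2, e, ← (Int.cast_commute n (ρ g)).eq, mul_assoc, map_mul_inv_cancel, mul_one]

theorem Hyp.u_sq {x y : G} (hx : Ord3 x) (hy : Ord3 y) :
    ∃ n : ℕ, u ρ x y * u ρ x y = n ∧ (n = 36 ∨ n = 4 ∨ n = 20) := by
  rcases h.u_cases hx hy with ⟨e, -⟩ | ⟨e, -⟩ | e | e | e
  · exact ⟨36, by rw [e]; norm_num, Or.inl rfl⟩
  · exact ⟨36, by rw [e]; norm_num, Or.inl rfl⟩
  · exact ⟨4, by rw [e]; norm_num, Or.inr (Or.inl rfl)⟩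
  · exact ⟨4, by rw [e]; norm_num, Or.inr (Or.inl rfl)⟩
  · exact ⟨20, by rw [e]; norm_num, Or.inr (Or.inr rfl)⟩

include T

theorem Tet.conjI_inv : gJ * gI * gJ⁻¹ = gI⁻¹ := by
  apply h.eq_of_map
  have F := T.frame
  rw [map_mul, map_mul, h.map_inv_of_sq F.II, h.map_inv_of_sq F.JJ, F.JI, neg_mul_neg, F.IJJ]

/-- the exotic configuration has `x₁² = 0` -/
theorem Tet.exotic_step {c : G} (hc3 : Ord3 c) {x0 x1 x2 x3 : R}
    (h0 : x0 ∈ coeff (ρ gI) (ρ gJ)) (h1 : x1 ∈ coeff (ρ gI) (ρ gJ))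
    (h2 : x2 ∈ coeff (ρ gI) (ρ gJ)) (h3 : x3 ∈ coeff (ρ gI) (ρ gJ))
    (hc : w ρ c = qf (ρ gI) (ρ gJ) x0 x1 x2 x3) (e0 : x0 * x0 = -1)
    (a1 : x0 * x1 + x1 * x0 = 0) (a2 : x0 * x2 + x2 * x0 = 0) (a3 : x0 * x3 + x3 * x0 = 0)
    (c12 : x1 * x2 = x2 * x1) (c23 : x2 * x3 = x3 * x2) (c31 : x3 * x1 = x1 * x3)
    (p12 : x1 * x2 = 0) (p31 : x3 * x1 = 0)
    (hsum : x1 * x1 + x2 * x2 + x3 * x3 = 2) : x1 * x1 = 0 := by
  have F := T.frame
  set S := coeff (ρ gI) (ρ gJ)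
  have h4s : (x1 * x1) * (x1 * x1) = 2 * (x1 * x1) := by
    have e := congrArg (x1 * x1 * ·) hsum
    simp only [mul_add] at e
    rw [show x1 * x1 * (x2 * x2) = x1 * (x1 * x2) * x2 by simp only [mul_assoc], p12,
      show x1 * x1 * (x3 * x3) = x1 * (x1 * x3) * x3 by simp only [mul_assoc], ← c31, p31] at e
    simp only [mul_zero, zero_mul, add_zero] at e
    rw [e, num_comm 2]
  have uI : u ρ c (gI * c * gI⁻¹) = 2 - 4 * (x1 * x1) := by
    rw [u, T.w_conjI h h0 h1 h2 h3 hc, hc,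
      F.anti_qf h0 h1 h2 h3 h0 h1 (S.neg_mem h2) (S.neg_mem h3)]
    have q0 : (x0 * x0 + x0 * x0) - (x1 * x1 + x1 * x1) - (x2 * -x2 + -x2 * x2)
        - (x3 * -x3 + -x3 * x3) = 2 - 4 * (x1 * x1) := by
      have : (x0 * x0 + x0 * x0) - (x1 * x1 + x1 * x1) - (x2 * -x2 + -x2 * x2)
          - (x3 * -x3 + -x3 * x3)
          = 2 * (x0 * x0) + 2 * (x1 * x1 + x2 * x2 + x3 * x3) - 4 * (x1 * x1) := by noncomm_ring
      rw [this, e0, hsum]; norm_num
    have q1 : (x0 * x1 + x1 * x0) + (x1 * x0 + x0 * x1) + (x2 * -x3 - -x3 * x2)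
        - (x3 * -x2 - -x2 * x3) = 0 := by
      have : (x0 * x1 + x1 * x0) + (x1 * x0 + x0 * x1) + (x2 * -x3 - -x3 * x2)
          - (x3 * -x2 - -x2 * x3)
          = 2 * (x0 * x1 + x1 * x0) - 2 * (x2 * x3 - x3 * x2) := by noncomm_ring
      rw [this, a1, c23]; simp
    have q2 : (x0 * -x2 + -x2 * x0) + (x2 * x0 + x0 * x2) + (x3 * x1 - x1 * x3)
        - (x1 * -x3 - -x3 * x1) = 0 := by
      have : (x0 * -x2 + -x2 * x0) + (x2 * x0 + x0 * x2) + (x3 * x1 - x1 * x3)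
          - (x1 * -x3 - -x3 * x1) = 0 := by noncomm_ring
      exact this
    have q3 : (x0 * -x3 + -x3 * x0) + (x3 * x0 + x0 * x3) + (x1 * -x2 - -x2 * x1)
        - (x2 * x1 - x1 * x2) = 0 := by noncomm_ring
    rw [q0, q1, q2, q3]; simp [qf]
  rcases h.u_cases hc3 (hc3.conj gI) with ⟨e, e'⟩ | ⟨e, -⟩ | e | e | e
  · -- `gI` centralizes `c`: `c` and its conjugate by `gJ` give a contradiction
    exfalso
    have hx1 : x1 * x1 = 2 := by
      refine sub_eq_zero.1 (h.smul_four ?_)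
      have : 4 * (x1 * x1 - 2) = -(u ρ c (gI * c * gI⁻¹) + 6) := by
        rw [uI]; noncomm_ring; norm_num
      rw [this, e, neg_add_cancel, neg_zero]
    have hx2 : x2 * x2 = 0 := by
      refine h.smul_two ?_
      rw [← hx1, show x1 * x1 * (x2 * x2) = x1 * (x1 * x2) * x2 by simp only [mul_assoc], p12,
        mul_zero, zero_mul]
    set d := gJ * c * gJ⁻¹ with hd
    have hud : u ρ c d = 2 := by
      rw [u, T.w_conjJ h h0 h1 h2 h3 hc, hc,
        F.anti_qf h0 h1 h2 h3 h0 (S.neg_mem h1) h2 (S.neg_mem h3)]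
      have q0 : (x0 * x0 + x0 * x0) - (x1 * -x1 + -x1 * x1) - (x2 * x2 + x2 * x2)
          - (x3 * -x3 + -x3 * x3) = 2 := by
        have : (x0 * x0 + x0 * x0) - (x1 * -x1 + -x1 * x1) - (x2 * x2 + x2 * x2)
            - (x3 * -x3 + -x3 * x3)
            = 2 * (x0 * x0) + 2 * (x1 * x1 + x2 * x2 + x3 * x3) - 4 * (x2 * x2) := by noncomm_ring
        rw [this, e0, hsum, hx2]; norm_num
      have q1 : (x0 * -x1 + -x1 * x0) + (x1 * x0 + x0 * x1) + (x2 * -x3 - -x3 * x2)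
          - (x3 * x2 - x2 * x3) = 0 := by noncomm_ring
      have q2 : (x0 * x2 + x2 * x0) + (x2 * x0 + x0 * x2) + (x3 * -x1 - -x1 * x3)
          - (x1 * -x3 - -x3 * x1) = 0 := by
        have : (x0 * x2 + x2 * x0) + (x2 * x0 + x0 * x2) + (x3 * -x1 - -x1 * x3)
            - (x1 * -x3 - -x3 * x1)
            = 2 * (x0 * x2 + x2 * x0) - 2 * (x3 * x1 - x1 * x3) := by noncomm_ring
        rw [this, a2, c31]; simp
      have q3 : (x0 * -x3 + -x3 * x0) + (x3 * x0 + x0 * x3) + (x1 * x2 - x2 * x1)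
          - (x2 * -x1 - -x1 * x2) = 0 := by noncomm_ring
      rw [q0, q1, q2, q3]; simp [qf]
    have hIc : Commute gI c := mul_inv_eq_iff_eq_mul.1 e'
    have hId : Commute gI d := by
      have h1' : Commute (gJ * gI * gJ⁻¹) d := hIc.map (MulAut.conj gJ).toMonoidHom
      rw [T.conjI_inv h] at h1'
      simpa using h1'.inv_left
    have hy := h.sq_of_u hc3 ((hc3.conj gJ).inv)
      (show u ρ c d⁻¹ = -2 by rw [h.u_inv_right (hc3.conj gJ), hud])
    have hIy : Commute gI (c * d⁻¹) := hIc.mul_right hId.inv_right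
    have hsq : gI * (c * d⁻¹) * (gI * (c * d⁻¹)) = 1 := by
      apply h.inj
      rw [show gI * (c * d⁻¹) * (gI * (c * d⁻¹)) = gI * gI * ((c * d⁻¹) * (c * d⁻¹)) by
        rw [mul_assoc, ← mul_assoc (c * d⁻¹), ← hIy.eq]; group]
      rw [map_mul, map_mul, map_mul (f := ρ) (c * d⁻¹), F.II, hy, neg_mul_neg, mul_one]
    have hyI : c * d⁻¹ = gI⁻¹ ∨ c * d⁻¹ = gI := by
      by_cases h1' : gI * (c * d⁻¹) = 1
      · exact Or.inl (eq_inv_of_mul_eq_one_right h1')
      · right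
        apply h.eq_of_map
        have e2 := h.eq_neg_one hsq h1'
        rw [map_mul] at e2
        calc ρ (c * d⁻¹) = -(ρ gI * ρ gI) * ρ (c * d⁻¹) := by rw [F.II, neg_neg, one_mul]
          _ = ρ gI := by rw [neg_mul, mul_assoc, e2, mul_neg, mul_one, neg_neg]
    have hyc : Commute (c * d⁻¹) c := by
      rcases hyI with e2 | e2 <;> rw [e2]
      exacts [hIc.inv_left, hIc]
    have hcd : Commute c d := by
      have h2' : Commute c (c⁻¹ * (c * d⁻¹)) := (Commute.refl c).inv_right.mul_right hyc.symm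
      rw [inv_mul_cancel_left] at h2'
      simpa using h2'.inv_right
    rcases h.eq_or_inv_of_commute hc3 (hc3.conj gJ) hcd with e2 | e2
    · rw [← hd] at e2
      rw [e2, h.u_self hc3] at hud
      refine h.four_ne (h.smul_two ?_)
      rw [show (2 : R) * 4 = 2 - -6 by norm_num, ← hud, sub_self]
    · rw [← hd] at e2
      rw [e2, h.u_inv_right hc3, h.u_self hc3] at hud
      refine h.four_ne ?_
      rw [show (4 : R) = - -6 - 2 by norm_num, hud, sub_self]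
  · exfalso
    have hx : x1 * x1 = -1 := by
      refine sub_eq_zero.1 (h.smul_four ?_)
      have : 4 * (x1 * x1 - -1) = 6 - u ρ c (gI * c * gI⁻¹) := by
        rw [uI]; noncomm_ring; norm_num
      rw [this, e, sub_self]
    rw [hx] at h4s
    refine h.three_ne ?_
    rw [show (3 : R) = -1 * -1 - 2 * -1 by norm_num, h4s, sub_self]
  · refine h.smul_four ?_
    have : 4 * (x1 * x1) = 2 - u ρ c (gI * c * gI⁻¹) := by rw [uI]; noncomm_ring
    rw [this, e, sub_self]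
  · exfalso
    have hx : x1 * x1 = 1 := by
      refine sub_eq_zero.1 (h.smul_four ?_)
      have : 4 * (x1 * x1 - 1) = -2 - u ρ c (gI * c * gI⁻¹) := by
        rw [uI]; noncomm_ring; norm_num
      rw [this, e, sub_self]
    rw [hx] at h4s
    refine h.nt ?_
    rw [show (1 : R) = 2 * 1 - 1 * 1 by norm_num, h4s, sub_self]
  · exfalso
    have hx : x1 * x1 = 1 := by
      refine sub_eq_zero.1 (h.smul_four (h.smul_four ?_))
      have : 4 * (4 * (x1 * x1 - 1))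
          = (u ρ c (gI * c * gI⁻¹) * u ρ c (gI * c * gI⁻¹) - 20)
            - 16 * ((x1 * x1) * (x1 * x1) - 2 * (x1 * x1)) := by
        rw [uI]; noncomm_ring; norm_num
      rw [this, e, h4s, sub_self, sub_self, mul_zero, sub_zero]
    rw [hx] at h4s
    refine h.nt ?_
    rw [show (1 : R) = 2 * 1 - 1 * 1 by norm_num, h4s, sub_self]

/-- the scalar coefficient vanishes -/
theorem Tet.pure {c : G} (hc3 : Ord3 c) {x0 x1 x2 x3 : R}
    (h0 : x0 ∈ coeff (ρ gI) (ρ gJ)) (h1 : x1 ∈ coeff (ρ gI) (ρ gJ))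
    (h2 : x2 ∈ coeff (ρ gI) (ρ gJ)) (h3 : x3 ∈ coeff (ρ gI) (ρ gJ))
    (hc : w ρ c = qf (ρ gI) (ρ gJ) x0 x1 x2 x3) :
    x0 = 0 ∧ x1 * x2 = x2 * x1 ∧ x2 * x3 = x3 * x2 ∧ x3 * x1 = x1 * x3 ∧
      x1 * x1 + x2 * x2 + x3 * x3 = 3 := by
  set S := coeff (ρ gI) (ρ gJ)
  have w2 := T.w_conjI h h0 h1 h2 h3 hc
  have w3 := T.w_conjJ h h0 h1 h2 h3 hc
  have w4 := T.w_conjI h h0 (S.neg_mem h1) h2 (S.neg_mem h3) w3
  obtain ⟨A1, o1⟩ := T.axis h hc3 h0 h1 h2 h3 hc
  obtain ⟨A2, o2⟩ := T.axis h (hc3.conj gI) h0 h1 (S.neg_mem h2) (S.neg_mem h3) w2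
  obtain ⟨A3, o3⟩ := T.axis h (hc3.conj gJ) h0 (S.neg_mem h1) h2 (S.neg_mem h3) w3
  obtain ⟨A4, o4⟩ := T.axis h ((hc3.conj gJ).conj gI) h0 (S.neg_mem h1) (S.neg_mem h2)
    (S.neg_mem (S.neg_mem h3)) w4
  simp only [neg_neg] at A4 o4
  obtain ⟨q0, q1, q2, q3⟩ := T.sq_eqs h hc3 h0 h1 h2 h3 hc
  have a1 : x0 * x1 + x1 * x0 = 0 := by
    refine h.smul_two ?_
    have : 2 * (x0 * x1 + x1 * x0) = (x0 * (x1 + x2 + x3) + (x1 + x2 + x3) * x0)
        + (x0 * (x1 + -x2 + -x3) + (x1 + -x2 + -x3) * x0) := by noncomm_ring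
    rw [this, A1, A2, add_zero]
  have a2 : x0 * x2 + x2 * x0 = 0 := by
    refine h.smul_two ?_
    have : 2 * (x0 * x2 + x2 * x0) = (x0 * (x1 + x2 + x3) + (x1 + x2 + x3) * x0)
        + (x0 * (-x1 + x2 + -x3) + (-x1 + x2 + -x3) * x0) := by noncomm_ring
    rw [this, A1, A3, add_zero]
  have a3 : x0 * x3 + x3 * x0 = 0 := by
    refine h.smul_two ?_
    have : 2 * (x0 * x3 + x3 * x0) = (x0 * (x1 + x2 + x3) + (x1 + x2 + x3) * x0)
        + (x0 * (-x1 + -x2 + x3) + (-x1 + -x2 + x3) * x0) := by noncomm_ring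
    rw [this, A1, A4, add_zero]
  rw [a1, zero_add, sub_eq_zero] at q1
  rw [a2, zero_add, sub_eq_zero] at q2
  rw [a3, zero_add, sub_eq_zero] at q3
  suffices hx0 : x0 = 0 by
    refine ⟨hx0, q3, q1, q2, ?_⟩
    have : x1 * x1 + x2 * x2 + x3 * x3 = x0 * x0 - (x0 * x0 - x1 * x1 - x2 * x2 - x3 * x3) := by
      abel
    rw [this, q0, hx0, mul_zero, zero_sub, neg_neg]
  rcases o1 with o1 | f1; · exact o1.1
  rcases o2 with o2 | f2; · exact o2.1
  rcases o3 with o3 | f3; · exact o3.1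
  rcases o4 with o4 | f4; · exact o4.1
  exfalso
  have e0 : x0 * x0 = -1 := by
    refine eq_neg_of_add_eq_zero_left (h.smul_four (h.smul_two ?_))
    have : 2 * (4 * (x0 * x0 + 1)) = (5 - ((x1 + x2 + x3) * (x1 + x2 + x3) - 3 * (x0 * x0)))
        + (5 - ((x1 + -x2 + -x3) * (x1 + -x2 + -x3) - 3 * (x0 * x0)))
        + (5 - ((-x1 + x2 + -x3) * (-x1 + x2 + -x3) - 3 * (x0 * x0)))
        + (5 - ((-x1 + -x2 + x3) * (-x1 + -x2 + x3) - 3 * (x0 * x0)))
        - 4 * ((x0 * x0 - x1 * x1 - x2 * x2 - x3 * x3) - -3) := by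
      noncomm_ring; norm_num
    rw [this, f1, f2, f3, f4, q0]; simp
  have hsum : x1 * x1 + x2 * x2 + x3 * x3 = 2 := by
    have : x1 * x1 + x2 * x2 + x3 * x3 = x0 * x0 - (x0 * x0 - x1 * x1 - x2 * x2 - x3 * x3) := by
      abel
    rw [this, q0, e0]; norm_num
  have p23 : x2 * x3 = 0 := by
    refine h.smul_four ?_
    have : 4 * (x2 * x3) = ((x1 + x2 + x3) * (x1 + x2 + x3) - 3 * (x0 * x0) - 5)
        + ((x1 + -x2 + -x3) * (x1 + -x2 + -x3) - 3 * (x0 * x0) - 5)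
        - 2 * (x1 * x1 + x2 * x2 + x3 * x3 - 2) + 6 * (x0 * x0 - -1) + 2 * (x2 * x3 - x3 * x2) := by
      noncomm_ring; norm_num
    rw [this, f1, f2, hsum, e0, q1]; simp
  have p31 : x3 * x1 = 0 := by
    refine h.smul_four ?_
    have : 4 * (x3 * x1) = ((x1 + x2 + x3) * (x1 + x2 + x3) - 3 * (x0 * x0) - 5)
        + ((-x1 + x2 + -x3) * (-x1 + x2 + -x3) - 3 * (x0 * x0) - 5)
        - 2 * (x1 * x1 + x2 * x2 + x3 * x3 - 2) + 6 * (x0 * x0 - -1) + 2 * (x3 * x1 - x1 * x3) := by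
      noncomm_ring; norm_num
    rw [this, f1, f3, hsum, e0, q2]; simp
  have p12 : x1 * x2 = 0 := by
    refine h.smul_four ?_
    have : 4 * (x1 * x2) = ((x1 + x2 + x3) * (x1 + x2 + x3) - 3 * (x0 * x0) - 5)
        + ((-x1 + -x2 + x3) * (-x1 + -x2 + x3) - 3 * (x0 * x0) - 5)
        - 2 * (x1 * x1 + x2 * x2 + x3 * x3 - 2) + 6 * (x0 * x0 - -1) + 2 * (x1 * x2 - x2 * x1) := by
      noncomm_ring; norm_num
    rw [this, f1, f4, hsum, e0, q3]; simp
  have s1 := T.exotic_step h hc3 h0 h1 h2 h3 hc e0 a1 a2 a3 q3 q1 q2 p12 p31 hsum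
  have r1 := T.w_rot h h0 h1 h2 h3 hc
  have r2 := T.w_rot h h0 h3 h1 h2 r1
  have hc1 : Ord3 (a⁻¹ * c * a) := by simpa using hc3.conj a⁻¹
  have hc2 : Ord3 (a⁻¹ * (a⁻¹ * c * a) * a) := by simpa using hc1.conj a⁻¹
  have s3 := T.exotic_step h hc1 h0 h3 h1 h2 r1 e0 a3 a1 a2 q2 q3 q1 p31 p23
    (by rw [← hsum]; abel)
  have s2 := T.exotic_step h hc2 h0 h2 h3 h1 r2 e0 a2 a3 a1 q1 q2 q3 p23 p12
    (by rw [← hsum]; abel)
  rw [s1, s2, s3] at hsum
  exact h.two_ne (by simpa using hsum.symm)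

theorem Tet.golden_of_two {c : G} (hc3 : Ord3 c) (hna : ¬ Reach a gI gJ c a) {x0 x1 x2 x3 : R}
    (h0 : x0 ∈ coeff (ρ gI) (ρ gJ)) (h1 : x1 ∈ coeff (ρ gI) (ρ gJ))
    (h2 : x2 ∈ coeff (ρ gI) (ρ gJ)) (h3 : x3 ∈ coeff (ρ gI) (ρ gJ))
    (hc : w ρ c = qf (ρ gI) (ρ gJ) x0 x1 x2 x3)
    (e : x1 + x2 + x3 = 1 ∨ x1 + x2 + x3 = -1)
    (f : x1 + -x2 + -x3 = 1 ∨ x1 + -x2 + -x3 = -1) :
    ∃ c' α, Reach a gI gJ c c' ∧ Gold ρ gI gJ c' α := by
  set S := coeff (ρ gI) (ρ gJ)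
  obtain ⟨hx0, q12, q23, q31, hsum⟩ := T.pure h hc3 h0 h1 h2 h3 hc
  subst hx0
  have w3 := T.w_conjJ h h0 h1 h2 h3 hc
  have w4 := T.w_conjI h h0 (S.neg_mem h1) h2 (S.neg_mem h3) w3
  obtain ⟨-, o3⟩ := T.axis h (hc3.conj gJ) h0 (S.neg_mem h1) h2 (S.neg_mem h3) w3
  obtain ⟨-, o4⟩ := T.axis h ((hc3.conj gJ).conj gI) h0 (S.neg_mem h1) (S.neg_mem h2)
    (S.neg_mem (S.neg_mem h3)) w4
  rw [neg_neg] at o4
  -- the squares of the other two values
  have sq : ∀ {d : G} {s : R}, Reach a gI gJ c d →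
      ((0 : R) = 0 ∧ ((d = a ∨ d = a⁻¹) ∨ s = 1 ∨ s = -1)) ∨ s * s - 3 * ((0 : R) * 0) = 5 →
      s * s = 1 ∨ s * s = 5 := by
    intro d s hd o
    rcases o with ⟨-, (rfl | rfl) | rfl | rfl⟩ | o
    · exact absurd hd hna
    · exact absurd (hd.trans (Reach.inv a⁻¹)) (by rwa [inv_inv])
    · exact Or.inl (one_mul 1)
    · exact Or.inl (by norm_num)
    · exact Or.inr (by simpa using o)
  have s3 := sq (Reach.conj mem_gJ c) o3
  have s4 := sq ((Reach.conj mem_gJ c).trans (Reach.conj mem_gI _)) o4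
  by_cases hef : x1 + x2 + x3 = x1 + -x2 + -x3
  · exfalso
    have h23 : x3 = -x2 := by
      refine eq_neg_of_add_eq_zero_left (h.smul_two ?_)
      have : 2 * (x3 + x2) = (x1 + x2 + x3) - (x1 + -x2 + -x3) := by noncomm_ring
      rw [this, hef, sub_self]
    subst h23
    have hx1 : x1 * x1 = 1 := by
      rw [add_neg_cancel_right] at e
      rcases e with e | e <;> rw [e] <;> norm_num
    have hx2 : x2 * x2 = 1 := by
      refine sub_eq_zero.1 (h.smul_two ?_)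
      have : 2 * (x2 * x2 - 1) = (x1 * x1 + x2 * x2 + -x2 * -x2) - 3 - (x1 * x1 - 1) := by
        noncomm_ring; norm_num
      rw [this, hsum, hx1]; simp
    have hprod : (-x1 + x2 + - -x2) * (-x1 + x2 + - -x2) +
        (-x1 + -x2 + -x2) * (-x1 + -x2 + -x2) = 10 := by
      have : (-x1 + x2 + - -x2) * (-x1 + x2 + - -x2) +
          (-x1 + -x2 + -x2) * (-x1 + -x2 + -x2) = 2 * (x1 * x1) + 8 * (x2 * x2) := by noncomm_ring
      rw [this, hx1, hx2]; norm_num
    rcases s3 with u3 | u3 <;> rcases s4 with u4 | u4 <;> rw [u3, u4] at hprod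
    · exact h.four_ne (h.smul_two (by rw [show (2 : R) * 4 = 10 - (1 + 1) by norm_num, hprod, sub_self]))
    · exact h.four_ne (by rw [show (4 : R) = 10 - (1 + 5) by norm_num, hprod, sub_self])
    · exact h.four_ne (by rw [show (4 : R) = 10 - (5 + 1) by norm_num, hprod, sub_self])
    · -- here both squares are `5`, but their product is `9`
      have hne : (-x1 + x2 + - -x2) * (-x1 + x2 + - -x2) -
          (-x1 + -x2 + -x2) * (-x1 + -x2 + -x2) = -(8 * (x1 * x2)) := by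
        have : (-x1 + x2 + - -x2) * (-x1 + x2 + - -x2) -
            (-x1 + -x2 + -x2) * (-x1 + -x2 + -x2)
            = -(8 * (x1 * x2)) + 4 * (x1 * x2 - x2 * x1) := by noncomm_ring
        rw [this, q12]; simp
      rw [u3, u4, sub_self, zero_eq_neg] at hne
      have h12 : x1 * x2 = 0 := h.smul_two (h.smul_four (by
        rw [← mul_assoc, show (4 : R) * 2 = 8 by norm_num, hne]))
      refine h.nt ?_
      calc (1 : R) = x1 * x1 * (x2 * x2) := by rw [hx1, hx2, mul_one]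
        _ = x1 * (x1 * x2) * x2 := by simp only [mul_assoc]
        _ = 0 := by rw [h12, mul_zero, zero_mul]
  · have hsum0 : x1 = 0 := by
      refine h.smul_two ?_
      have : 2 * x1 = (x1 + x2 + x3) + (x1 + -x2 + -x3) := by noncomm_ring
      rw [this]
      rcases e with e | e <;> rcases f with f | f <;> rw [e, f]
      · exact absurd (e.trans f.symm) hef
      · exact add_neg_cancel 1
      · exact neg_add_cancel 1
      · exact absurd (e.trans f.symm) hef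
    subst hsum0
    rw [zero_add] at e
    have hq : ∀ y z : R, y + z = 1 → y * y + z * z = 3 → z = 1 - y ∧ y * y = y + 1 := by
      intro y z hyz h3'
      have hz : z = 1 - y := eq_sub_of_add_eq' hyz
      refine ⟨hz, sub_eq_zero.1 (h.smul_two ?_)⟩
      have : 2 * (y * y - (y + 1)) = (y * y + (1 - y) * (1 - y)) - 3 := by noncomm_ring; norm_num
      rw [this, ← hz, h3', sub_self]
    rw [mul_zero, zero_add] at hsum
    rcases e with e | e
    · obtain ⟨hz, hy⟩ := hq x2 x3 e hsum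
      exact ⟨c, x2, Reach.refl c, h2, hy, by rw [hc, hz]⟩
    · obtain ⟨hz, hy⟩ := hq (-x2) (-x3) (by rw [← neg_add, e, neg_neg])
        (by rw [neg_mul_neg, neg_mul_neg, hsum])
      refine ⟨c⁻¹, -x2, Reach.inv c, S.neg_mem h2, hy, ?_⟩
      rw [h.w_inv hc3, hc, ← hz]
      simp only [qf, neg_add, neg_mul, zero_mul, neg_zero]

/-- the normal form -/
theorem Tet.normal_form {c : G} (hc3 : Ord3 c) :
    Reach a gI gJ c a ∨ ∃ c' α, Reach a gI gJ c c' ∧ Gold ρ gI gJ c' α := by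
  set S := coeff (ρ gI) (ρ gJ)
  refine or_iff_not_imp_left.2 fun hna => ?_
  obtain ⟨x0, x1, x2, x3, h0, h1, h2, h3, hc⟩ := T.frame.exists_qf h.four (w ρ c)
  obtain ⟨hx0, q12, q23, q31, hsum⟩ := T.pure h hc3 h0 h1 h2 h3 hc
  subst hx0
  have w2 := T.w_conjI h h0 h1 h2 h3 hc
  have w3 := T.w_conjJ h h0 h1 h2 h3 hc
  have w4 := T.w_conjI h h0 (S.neg_mem h1) h2 (S.neg_mem h3) w3
  obtain ⟨-, o1⟩ := T.axis h hc3 h0 h1 h2 h3 hc
  obtain ⟨-, o2⟩ := T.axis h (hc3.conj gI) h0 h1 (S.neg_mem h2) (S.neg_mem h3) w2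
  obtain ⟨-, o3⟩ := T.axis h (hc3.conj gJ) h0 (S.neg_mem h1) h2 (S.neg_mem h3) w3
  obtain ⟨-, o4⟩ := T.axis h ((hc3.conj gJ).conj gI) h0 (S.neg_mem h1) (S.neg_mem h2)
    (S.neg_mem (S.neg_mem h3)) w4
  rw [neg_neg] at o4
  have val : ∀ {d : G} {s : R}, Reach a gI gJ c d →
      ((0 : R) = 0 ∧ ((d = a ∨ d = a⁻¹) ∨ s = 1 ∨ s = -1)) ∨ s * s - 3 * ((0 : R) * 0) = 5 →
      ((s = 1 ∨ s = -1) ∧ s * s = 1) ∨ s * s = 5 := by
    intro d s hd o
    rcases o with ⟨-, (rfl | rfl) | rfl | rfl⟩ | o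
    · exact absurd hd hna
    · exact absurd (hd.trans (Reach.inv a⁻¹)) (by rwa [inv_inv])
    · exact Or.inl ⟨Or.inl rfl, one_mul 1⟩
    · exact Or.inl ⟨Or.inr rfl, by norm_num⟩
    · exact Or.inr (by simpa using o)
  have rI : Reach a gI gJ c (gI * c * gI⁻¹) := Reach.conj mem_gI c
  have rJ : Reach a gI gJ c (gJ * c * gJ⁻¹) := Reach.conj mem_gJ c
  have rot : ∀ d, Reach a gI gJ d (a⁻¹ * d * a) := fun d => by
    simpa using Reach.conj (inv_mem (mem_a (gI := gI) (gJ := gJ))) d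
  have v1 := val (Reach.refl c) o1
  have v2 := val rI o2
  have v3 := val rJ o3
  have v4 := val (rJ.trans (Reach.conj mem_gI _)) o4
  have hord : ∀ {d}, Reach a gI gJ c d → Ord3 d := fun hd => hd.ord3 hc3
  have hnad : ∀ {d}, Reach a gI gJ c d → ¬ Reach a gI gJ d a := fun hd hda => hna (hd.trans hda)
  have fin : ∀ {d}, Reach a gI gJ c d → (∃ c' α, Reach a gI gJ d c' ∧ Gold ρ gI gJ c' α) →
      ∃ c' α, Reach a gI gJ c c' ∧ Gold ρ gI gJ c' α :=
    fun hd ⟨c', α, hr, hg⟩ => ⟨c', α, hd.trans hr, hg⟩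
  have htot : (x1 + x2 + x3) * (x1 + x2 + x3) + (x1 + -x2 + -x3) * (x1 + -x2 + -x3)
      + (-x1 + x2 + -x3) * (-x1 + x2 + -x3) + (-x1 + -x2 + x3) * (-x1 + -x2 + x3) = 12 := by
    have : (x1 + x2 + x3) * (x1 + x2 + x3) + (x1 + -x2 + -x3) * (x1 + -x2 + -x3)
        + (-x1 + x2 + -x3) * (-x1 + x2 + -x3) + (-x1 + -x2 + x3) * (-x1 + -x2 + x3)
        = 4 * (x1 * x1 + x2 * x2 + x3 * x3) := by noncomm_ring
    rw [this, hsum]; norm_num
  have bad : ∀ n : R, n = 12 → (n - 12 = 4 ∨ n - 12 = 8 ∨ 12 - n = 4 ∨ 12 - n = 8) → False := by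
    rintro _ rfl (e | e | e | e)
    all_goals rw [sub_self] at e
    · exact h.four_ne e.symm
    · exact h.four_ne (h.smul_two (by rw [show (2 : R) * 4 = 8 by norm_num, ← e]))
    · exact h.four_ne e.symm
    · exact h.four_ne (h.smul_two (by rw [show (2 : R) * 4 = 8 by norm_num, ← e]))
  rcases v1 with ⟨e1, u1⟩ | u1 <;> rcases v2 with ⟨e2, u2⟩ | u2 <;>
    rcases v3 with ⟨e3, u3⟩ | u3 <;> rcases v4 with ⟨e4, u4⟩ | u4 <;>
    rw [u1, u2, u3, u4] at htot
  all_goals first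
    | (refine (bad _ htot ?_).elim; norm_num; done)
    | skip
  · exact T.golden_of_two h hc3 hna h0 h1 h2 h3 hc e1 e2
  · refine fin ((rot c).trans (rot _)) (T.golden_of_two h (hord ((rot c).trans (rot _)))
      (hnad ((rot c).trans (rot _))) h0 h2 h3 h1
      (T.w_rot h h0 h3 h1 h2 (T.w_rot h h0 h1 h2 h3 hc)) ?_ ?_)
    · simpa only [add_comm, add_left_comm, add_assoc] using e1
    · simpa only [add_comm, add_left_comm, add_assoc] using e3
  · refine fin (rot c) (T.golden_of_two h (hord (rot c)) (hnad (rot c)) h0 h3 h1 h2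
      (T.w_rot h h0 h1 h2 h3 hc) ?_ ?_)
    · simpa only [add_comm, add_left_comm, add_assoc] using e1
    · simpa only [add_comm, add_left_comm, add_assoc] using e4
  · refine fin (rI.trans (rot _)) (T.golden_of_two h (hord (rI.trans (rot _)))
      (hnad (rI.trans (rot _))) h0 (S.neg_mem h3) h1 (S.neg_mem h2)
      (T.w_rot h h0 h1 (S.neg_mem h2) (S.neg_mem h3) w2) ?_ ?_)
    · simpa only [add_comm, add_left_comm, add_assoc] using e2
    · simp only [neg_neg]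
      simpa only [add_comm, add_left_comm, add_assoc] using e3
  · refine fin (rI.trans ((rot _).trans (rot _))) (T.golden_of_two h
      (hord (rI.trans ((rot _).trans (rot _)))) (hnad (rI.trans ((rot _).trans (rot _))))
      h0 (S.neg_mem h2) (S.neg_mem h3) h1
      (T.w_rot h h0 (S.neg_mem h3) h1 (S.neg_mem h2)
        (T.w_rot h h0 h1 (S.neg_mem h2) (S.neg_mem h3) w2)) ?_ ?_)
    · simpa only [add_comm, add_left_comm, add_assoc] using e2
    · simp only [neg_neg]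
      simpa only [add_comm, add_left_comm, add_assoc] using e4
  · refine fin rJ (T.golden_of_two h (hord rJ) (hnad rJ) h0 (S.neg_mem h1) h2 (S.neg_mem h3) w3
      e3 ?_)
    simp only [neg_neg]
    exact e4

/-- there is only one golden element -/
theorem Tet.gold_unique {c d : G} (hc3 : Ord3 c) (hd3 : Ord3 d) {α ω : R}
    (hc : Gold ρ gI gJ c α) (hd : Gold ρ gI gJ d ω) : c = d := by
  obtain ⟨hα, eα, wc⟩ := hc
  obtain ⟨hω, eω, wd⟩ := hd
  have F := T.frame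
  set S := coeff (ρ gI) (ρ gJ)
  have hz : (0 : R) ∈ S := S.zero_mem
  have hα' : 1 - α ∈ S := S.sub_mem S.one_mem hα
  have hω' : 1 - ω ∈ S := S.sub_mem S.one_mem hω
  set γ := α * ω - ω * α with hγ
  set μ := α * ω + ω * α with hμ
  set p := 2 * μ + 2 - 2 * α - 2 * ω with hp
  have hu1 : u ρ c d = -p := by
    rw [u, wc, wd, F.anti_qf hz hz hα hα' hz hz hω hω']
    simp only [mul_zero, zero_mul, add_zero, sub_zero, zero_sub, zero_add, sub_self]
    rw [show -(α * ω + ω * α) - ((1 - α) * (1 - ω) + (1 - ω) * (1 - α)) = -p by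
      rw [hp, hμ]; noncomm_ring; norm_num; abel]
    rw [show α * (1 - ω) - (1 - ω) * α - ((1 - α) * ω - ω * (1 - α)) = 0 by noncomm_ring]
    simp [qf]
  have αr : ∀ Z : R, α * (α * Z) = α * Z + Z := fun Z => by rw [← mul_assoc, eα, add_mul, one_mul]
  have ωr : ∀ Z : R, ω * (ω * Z) = ω * Z + Z := fun Z => by rw [← mul_assoc, eω, add_mul, one_mul]
  have hαγ : α * γ + γ * α = γ := by
    simp only [hγ, mul_sub, sub_mul, mul_assoc, eα, αr, mul_add, mul_one]
    abel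
  have hωγ : ω * γ + γ * ω = γ := by
    simp only [hγ, mul_sub, sub_mul, mul_assoc, eω, ωr, mul_add, mul_one]
    abel
  have hγ2 : 4 * (γ * γ) = p * p - 2 * p - 24 := by
    have key : γ * γ = (μ - α - ω) * (μ - α - ω) + (μ - α - ω) - (1 + 1 + 1 + 1 + 1 + 1) := by
      simp only [hγ, hμ, mul_sub, sub_mul, mul_add, add_mul, mul_assoc, eα, eω, αr, ωr, mul_one]
      abel
    have : p * p - 2 * p - 24
        = 4 * ((μ - α - ω) * (μ - α - ω) + (μ - α - ω) - (1 + 1 + 1 + 1 + 1 + 1)) := by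
      rw [hp]; noncomm_ring; norm_num
    rw [this, key]
  -- the vector part of the invariant with the rotated element
  have hpγ : (p - 2) * γ + γ * (p - 2) = 0 := by
    have hd' : Ord3 (a⁻¹ * d * a) := by simpa using hd3.conj a⁻¹
    obtain ⟨n, hn, -⟩ := h.u_sq hc3 hd'
    have hu3 : u ρ c (a⁻¹ * d * a) = qf (ρ gI) (ρ gJ) (μ - 2 * ω) γ γ γ := by
      rw [u, wc, T.w_rot h hz hz hω hω' wd, F.anti_qf hz hz hα hα' hz hω' hz hω]
      simp only [mul_zero, zero_mul, add_zero, sub_zero, zero_sub, zero_add, sub_self]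
      congr 1
      · rw [hμ]; noncomm_ring
      · rw [hγ]; noncomm_ring
      · rw [hγ]; noncomm_ring
    have hγS : γ ∈ S := S.sub_mem (S.mul_mem hα hω) (S.mul_mem hω hα)
    have hzS : μ - 2 * ω ∈ S := S.sub_mem (S.add_mem (S.mul_mem hα hω) (S.mul_mem hω hα))
      (S.mul_mem (by exact_mod_cast natCast_mem S 2) hω)
    rw [hu3, F.mul_qf hzS hγS hγS hγS,
      show (n : R) = qf (ρ gI) (ρ gJ) (n : R) 0 0 0 by simp [qf]] at hn
    obtain ⟨-, q1, -, -⟩ := F.qf_inj h.two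
      (S.sub_mem (S.sub_mem (S.sub_mem (S.mul_mem hzS hzS) (S.mul_mem hγS hγS)) (S.mul_mem hγS hγS))
        (S.mul_mem hγS hγS))
      (S.sub_mem (S.add_mem (S.add_mem (S.mul_mem hzS hγS) (S.mul_mem hγS hzS)) (S.mul_mem hγS hγS))
        (S.mul_mem hγS hγS))
      (S.add_mem (S.add_mem (S.sub_mem (S.mul_mem hzS hγS) (S.mul_mem hγS hγS)) (S.mul_mem hγS hzS))
        (S.mul_mem hγS hγS))
      (S.add_mem (S.sub_mem (S.add_mem (S.mul_mem hzS hγS) (S.mul_mem hγS hγS)) (S.mul_mem hγS hγS))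
        (S.mul_mem hγS hzS))
      (natCast_mem S n) hz hz hz hn
    have : (p - 2) * γ + γ * (p - 2) = 2 * ((μ - 2 * ω) * γ + γ * (μ - 2 * ω) + γ * γ - γ * γ)
        - 2 * (α * γ + γ * α - γ) + 2 * (ω * γ + γ * ω - γ) := by
      rw [hp]; noncomm_ring
    rw [this, q1, hαγ, hωγ, sub_self]; simp
  have hγzero : ∀ n : ℤ, p = n → IsUnit ((n - 2 : ℤ) : R) → γ = 0 := fun n e hn => by
    have hcγ : γ * ((n : R) - 2) = ((n : R) - 2) * γ := by
      have := (Int.commute_cast γ (n - 2)).eq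
      push_cast at this
      exact this
    rw [e] at hpγ
    refine hn.mul_right_eq_zero.1 (h.smul_two ?_)
    push_cast
    rw [← hpγ, hcγ, two_mul]
  rcases h.u_cases hc3 hd3 with ⟨-, e⟩ | ⟨-, e⟩ | e | e | e
  · exact e.symm
  · exfalso
    rw [e, h.w_inv hc3, wc] at wd
    have e' : qf (ρ gI) (ρ gJ) 0 0 (-α) (-(1 - α)) = qf (ρ gI) (ρ gJ) 0 0 ω (1 - ω) := by
      rw [← wd]; simp only [qf, neg_add, neg_mul, zero_mul, neg_zero]
    obtain ⟨-, -, f2, f3⟩ := F.qf_inj h.two hz hz (S.neg_mem hα) (S.neg_mem hα') hz hz hω hω' e'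
    refine h.two_ne ?_
    have : (2 : R) = (ω - -α) + ((1 - ω) - -(1 - α)) := by
      rw [← one_add_one_eq_two]; abel
    rw [this, ← f3, f2]; simp
  · -- `p = -2`
    exfalso
    rw [hu1, neg_eq_iff_eq_neg] at e
    have hg := hγzero (-2) (by rw [e]; norm_num) (by
      norm_num; exact h.four)
    rw [hg, e, mul_zero, mul_zero] at hγ2
    refine h.four_ne (h.smul_four ?_)
    rw [show (4 : R) * 4 = -(-2 * -2 - 2 * -2 - 24) by norm_num, ← hγ2, neg_zero]
  · -- `p = 2`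
    exfalso
    rw [hu1, neg_inj] at e
    rw [e] at hγ2
    set d2 := gJ * d * gJ⁻¹ with hd2
    have wd2 := T.w_conjJ h hz hz hω hω' wd
    rw [neg_zero] at wd2
    set v := 2 - 2 * α - 2 * ω with hv
    have hvS : v ∈ S := by
      have h2 : (2 : R) ∈ S := by exact_mod_cast natCast_mem S 2
      exact S.sub_mem (S.sub_mem h2 (S.mul_mem h2 hα)) (S.mul_mem h2 hω)
    have hgS : γ + γ ∈ S :=
      S.add_mem (S.sub_mem (S.mul_mem hα hω) (S.mul_mem hω hα))
        (S.sub_mem (S.mul_mem hα hω) (S.mul_mem hω hα))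
    have hu2 : u ρ c d2 = qf (ρ gI) (ρ gJ) v (γ + γ) 0 0 := by
      rw [u, wc, wd2, F.anti_qf hz hz hα hα' hz hz hω (S.neg_mem hω')]
      simp only [mul_zero, zero_mul, add_zero, sub_zero, zero_sub, zero_add, sub_self]
      congr 1
      · rw [hv]; noncomm_ring; norm_num; abel
      · rw [hγ]; noncomm_ring
    have h36 : v * v - (γ + γ) * (γ + γ) = 36 := by
      have hv2 : v * v = 8 + 2 * p := by
        have key : (1 - α - ω) * (1 - α - ω) = 1 + 1 + 1 - α - ω + μ := by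
          simp only [hμ, mul_sub, sub_mul, mul_assoc, eα, eω, mul_one, one_mul]
          abel
        have : v * v = 4 * ((1 - α - ω) * (1 - α - ω)) := by
          rw [hv]; noncomm_ring; norm_num; abel
        rw [this, key, hp]; noncomm_ring; norm_num; abel
      have hg2 : (γ + γ) * (γ + γ) = 4 * (γ * γ) := by noncomm_ring
      rw [hv2, hg2, hγ2, e]; norm_num
    rcases h.u_cases hc3 (hd3.conj gJ) with ⟨-, f⟩ | ⟨-, f⟩ | f | f | f
    · rw [← hd2] at f
      rw [← hd2, f, wc] at wd2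
      obtain ⟨-, -, f2, f3⟩ := F.qf_inj h.two hz hz hα hα' hz hz hω (S.neg_mem hω') wd2
      rw [f2, eq_neg_iff_add_eq_zero, ← two_mul] at f3
      have hw1 : ω = 1 := (sub_eq_zero.1 (h.smul_two f3)).symm
      rw [hw1] at eω
      exact h.nt (by simpa using eω.symm)
    · rw [← hd2] at f
      rw [← hd2, f, h.w_inv hc3, wc] at wd2
      have e' : qf (ρ gI) (ρ gJ) 0 0 (-α) (-(1 - α)) = qf (ρ gI) (ρ gJ) 0 0 ω (-(1 - ω)) := by
        rw [← wd2]; simp only [qf, neg_add, neg_mul, zero_mul, neg_zero]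
      obtain ⟨-, -, f2, f3⟩ :=
        F.qf_inj h.two hz hz (S.neg_mem hα) (S.neg_mem hα') hz hz hω (S.neg_mem hω') e'
      rw [neg_inj, sub_right_inj] at f3
      rw [f3, neg_eq_iff_add_eq_zero, ← two_mul] at f2
      rw [h.smul_two f2] at eω
      exact h.nt (by simpa using eω.symm)
    all_goals
      have e2 : u ρ c d2 * u ρ c d2 = 4 ∨ u ρ c d2 * u ρ c d2 = 20 := by
        first
          | exact Or.inr f
          | exact Or.inl (by rw [← hd2] at f; rw [f]; norm_num)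
      rw [hu2, F.mul_qf hvS hgS hz hz] at e2
      simp only [mul_zero, zero_mul, add_zero, sub_zero, zero_sub, zero_add, neg_zero] at e2
      have hm : ∀ n : ℕ, (n : R) = qf (ρ gI) (ρ gJ) (n : R) 0 0 0 := fun n => by simp [qf]
      rcases e2 with e2 | e2
      · rw [show (4 : R) = ((4 : ℕ) : R) by norm_num, hm 4] at e2
        obtain ⟨q0, -⟩ := F.qf_inj h.two (S.sub_mem (S.mul_mem hvS hvS) (S.mul_mem hgS hgS))
          (S.add_mem (S.mul_mem hvS hgS) (S.mul_mem hgS hvS)) hz hz (natCast_mem S 4) hz hz hz e2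
        refine h.two_ne (h.smul_four (h.smul_four ?_))
        rw [show (4 : R) * (4 * 2) = 36 - ((4 : ℕ) : R) by norm_num, ← q0, h36, sub_self]
      · rw [show (20 : R) = ((20 : ℕ) : R) by norm_num, hm 20] at e2
        obtain ⟨q0, -⟩ := F.qf_inj h.two (S.sub_mem (S.mul_mem hvS hvS) (S.mul_mem hgS hgS))
          (S.add_mem (S.mul_mem hvS hgS) (S.mul_mem hgS hvS)) hz hz (natCast_mem S 20) hz hz hz e2
        refine h.four_ne (h.smul_four ?_)
        rw [show (4 : R) * 4 = 36 - ((20 : ℕ) : R) by norm_num, ← q0, h36, sub_self]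
  · -- `p² = 20`
    exfalso
    rw [hu1, neg_mul_neg] at e
    have hγp : γ * p + p * γ = 4 * γ := by
      have : γ * p + p * γ = ((p - 2) * γ + γ * (p - 2)) + 4 * γ := by noncomm_ring
      rw [this, hpγ, zero_add]
    have hg : γ = 0 := by
      have hc1 : p * (γ * p + p * γ) = 4 * (p * γ) := by
        rw [hγp, ← mul_assoc, num_comm 4, mul_assoc]
      have hc2 : (γ * p + p * γ) * p = 4 * (γ * p) := by rw [hγp, mul_assoc]
      rw [mul_add, ← mul_assoc p p, e, ← mul_assoc] at hc1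
      rw [add_mul, mul_assoc γ, e, num_comm 20] at hc2
      have hc3 : 4 * (p * γ - γ * p) = 0 := by
        have : 4 * (p * γ - γ * p) = (20 * γ + p * γ * p - 4 * (γ * p))
            - (p * γ * p + 20 * γ - 4 * (p * γ)) := by noncomm_ring
        rw [this, ← hc1, ← hc2]; abel
      have hcomm := sub_eq_zero.1 (h.smul_four hc3)
      have h2γ : p * γ = 2 * γ := by
        refine sub_eq_zero.1 (h.smul_two ?_)
        have : 2 * (p * γ - 2 * γ) = γ * p + p * γ - 4 * γ + (p * γ - γ * p) := by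
          noncomm_ring
        rw [this, hγp, hcomm]; abel
      refine h.smul_four (h.smul_four ?_)
      have : 4 * (4 * γ)
          = (20 - p * p) * γ + p * (p * γ - 2 * γ) + 2 * (p * γ - 2 * γ) := by
        noncomm_ring
      rw [this, e, h2γ]; simp
    rw [hg, e, mul_zero, mul_zero] at hγ2
    have hp2 : p = -2 := by
      refine eq_neg_of_add_eq_zero_left (h.smul_two ?_)
      have : 2 * (p + 2) = -(20 - 2 * p - 24) := by noncomm_ring; norm_num
      rw [this, ← hγ2, neg_zero]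
    rw [hp2] at e
    refine h.four_ne (h.smul_four ?_)
    rw [show (4 : R) * 4 = 20 - -2 * -2 by norm_num, e, sub_self]

end

end Cfsg.Agent.Perm.Fpf
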