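import Mathlib
import Cfsg.Agent.Lib.Perm.Fpf.Pure

/-!
# The binary icosahedral group in a tetrahedral frame

If `d` is a golden element, the group generated by `gI`, `a`, `d` is read off a table of the
120 icosians, which also enumerates `SL(2, 5)`.
-/

set_option autoImplicit false

namespace Cfsg.Agent.Perm.Fpf.Ico

/-- elements `m + n ω` -/
abbrev Zw := ℤ × ℤ

/-- doubled quaternions over `ℤ[ω]` -/
abbrev Quat := Zw × Zw × Zw × Zw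

/-- matrices over `ZMod 5` as quadruples -/
abbrev M4 := ZMod 5 × ZMod 5 × ZMod 5 × ZMod 5

def zm (p q : Zw) : Zw := (p.1 * q.1 + p.2 * q.2, p.1 * q.2 + p.2 * q.1 + p.2 * q.2)

def qm : Quat → Quat → Quat
  | (x0, x1, x2, x3), (y0, y1, y2, y3) =>
    (zm x0 y0 - zm x1 y1 - zm x2 y2 - zm x3 y3, zm x0 y1 + zm x1 y0 + zm x2 y3 - zm x3 y2,
      zm x0 y2 - zm x1 y3 + zm x2 y0 + zm x3 y1, zm x0 y3 + zm x1 y2 - zm x2 y1 + zm x3 y0)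

def mm : M4 → M4 → M4
  | (a, b, c, d), (a', b', c', d') => (a * a' + b * c', a * b' + b * d', c * a' + d * c', c * b' + d * d')

def minv : M4 → M4
  | (a, b, c, d) => (d, -b, -c, a)

def icoList : List Quat := [
  ((2, 0), (0, 0), (0, 0), (0, 0)), ((0, 0), (2, 0), (0, 0), (0, 0)),
  ((-1, 0), (1, 0), (1, 0), (1, 0)), ((-1, 0), (0, 0), (0, 1), (1, -1)),
  ((-2, 0), (0, 0), (0, 0), (0, 0)), ((-1, 0), (-1, 0), (-1, 0), (1, 0)),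
  ((0, 0), (-1, 0), (-1, 1), (0, 1)), ((-1, 0), (-1, 0), (1, 0), (-1, 0)),
  ((-1, 0), (-1, 0), (-1, 0), (-1, 0)), ((0, 0), (0, -1), (-1, 0), (-1, 1)),
  ((0, 0), (-1, 0), (1, -1), (0, -1)), ((0, 0), (-1, 1), (0, -1), (-1, 0)),
  ((-1, 0), (0, 0), (0, -1), (-1, 1)), ((0, 0), (-2, 0), (0, 0), (0, 0)),
  ((1, 0), (-1, 0), (-1, 0), (-1, 0)), ((1, 0), (0, 0), (0, -1), (-1, 1)),
  ((1, 0), (-1, 0), (1, 0), (1, 0)), ((1, 0), (-1, 0), (1, 0), (-1, 0)),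
  ((0, 1), (0, 0), (1, -1), (-1, 0)), ((1, 0), (0, 0), (0, 1), (1, -1)),
  ((1, -1), (0, 0), (1, 0), (0, -1)), ((1, 0), (1, 0), (-1, 0), (-1, 0)),
  ((1, -1), (1, 0), (0, -1), (0, 0)), ((1, 0), (-1, 0), (-1, 0), (1, 0)),
  ((1, 0), (0, 1), (1, -1), (0, 0)), ((0, 1), (0, 0), (-1, 1), (1, 0)),
  ((1, 0), (-1, 1), (0, 0), (0, -1)), ((0, 1), (1, 0), (0, 0), (-1, 1)),
  ((1, -1), (0, 0), (-1, 0), (0, 1)), ((1, 0), (1, -1), (0, 0), (0, 1)),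
  ((1, 0), (1, 0), (1, 0), (1, 0)), ((1, 0), (0, -1), (-1, 1), (0, 0)),
  ((1, 0), (1, 0), (1, 0), (-1, 0)), ((0, 0), (1, 0), (1, -1), (0, -1)),
  ((1, 0), (1, 0), (-1, 0), (1, 0)), ((0, 0), (0, 1), (1, 0), (1, -1)),
  ((0, 0), (1, 0), (-1, 1), (0, 1)), ((0, 0), (1, -1), (0, 1), (1, 0)),
  ((-1, 0), (1, 0), (1, 0), (-1, 0)), ((-1, 0), (1, -1), (0, 0), (0, -1)),
  ((0, -1), (1, 0), (0, 0), (1, -1)), ((0, 0), (0, 1), (-1, 0), (-1, 1)),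
  ((1, -1), (1, 0), (0, 1), (0, 0)), ((-1, 0), (0, 1), (1, -1), (0, 0)),
  ((0, 0), (1, -1), (0, -1), (-1, 0)), ((-1, 1), (1, 0), (0, -1), (0, 0)),
  ((-1, 0), (1, 0), (-1, 0), (1, 0)), ((0, 0), (0, 0), (0, 0), (2, 0)),
  ((0, 0), (-1, 1), (0, 1), (1, 0)), ((-1, 0), (1, -1), (0, 0), (0, 1)),
  ((-1, 1), (0, -1), (0, 0), (1, 0)), ((0, 0), (0, 0), (2, 0), (0, 0)),
  ((-1, 1), (0, 0), (1, 0), (0, -1)), ((0, -1), (1, 0), (0, 0), (-1, 1)),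
  ((0, -1), (-1, 1), (1, 0), (0, 0)), ((0, 0), (1, 0), (1, -1), (0, 1)),
  ((-1, 0), (0, 1), (-1, 1), (0, 0)), ((0, -1), (0, 0), (-1, 1), (1, 0)),
  ((1, -1), (-1, 0), (0, 1), (0, 0)), ((0, 0), (0, -1), (1, 0), (1, -1)),
  ((0, 1), (-1, 0), (0, 0), (1, -1)), ((-1, 1), (1, 0), (0, 1), (0, 0)),
  ((0, 0), (-1, 0), (-1, 1), (0, -1)), ((-1, 0), (0, -1), (-1, 1), (0, 0)),
  ((0, 1), (1, 0), (0, 0), (1, -1)), ((-1, 0), (-1, 1), (0, 0), (0, -1)),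
  ((-1, 0), (1, 0), (-1, 0), (-1, 0)), ((-1, 1), (0, 0), (-1, 0), (0, 1)),
  ((-1, 0), (-1, 0), (1, 0), (1, 0)), ((-1, 1), (-1, 0), (0, 1), (0, 0)),
  ((0, -1), (0, 0), (1, -1), (-1, 0)), ((0, -1), (-1, 0), (0, 0), (1, -1)),
  ((0, 0), (0, 0), (-2, 0), (0, 0)), ((-1, 1), (-1, 0), (0, -1), (0, 0)),
  ((0, 1), (-1, 1), (-1, 0), (0, 0)), ((-1, 0), (0, -1), (1, -1), (0, 0)),
  ((1, -1), (0, -1), (0, 0), (1, 0)), ((-1, 0), (0, 0), (0, -1), (1, -1)),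
  ((0, -1), (-1, 0), (0, 0), (-1, 1)), ((1, 0), (0, 1), (-1, 1), (0, 0)),
  ((-1, 0), (-1, 1), (0, 0), (0, 1)), ((1, 0), (0, 0), (0, 1), (-1, 1)),
  ((0, 1), (-1, 0), (0, 0), (-1, 1)), ((-1, 1), (0, -1), (0, 0), (-1, 0)),
  ((0, 1), (-1, 1), (1, 0), (0, 0)), ((0, 0), (-1, 1), (0, 1), (-1, 0)),
  ((0, 0), (0, 0), (0, 0), (-2, 0)), ((0, -1), (1, -1), (-1, 0), (0, 0)),
  ((0, 0), (0, -1), (-1, 0), (1, -1)), ((1, -1), (0, -1), (0, 0), (-1, 0)),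
  ((0, 0), (1, -1), (0, -1), (1, 0)), ((-1, 0), (0, 0), (0, 1), (-1, 1)),
  ((1, -1), (-1, 0), (0, -1), (0, 0)), ((0, 0), (-1, 0), (1, -1), (0, 1)),
  ((1, 0), (1, -1), (0, 0), (0, -1)), ((-1, 1), (0, 1), (0, 0), (-1, 0)),
  ((0, 0), (0, 1), (1, 0), (-1, 1)), ((0, -1), (-1, 1), (-1, 0), (0, 0)),
  ((1, 0), (0, 0), (0, -1), (1, -1)), ((1, 0), (-1, 1), (0, 0), (0, 1)),
  ((1, -1), (0, 1), (0, 0), (-1, 0)), ((0, 1), (1, -1), (-1, 0), (0, 0)),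
  ((1, 0), (0, -1), (1, -1), (0, 0)), ((1, -1), (0, 1), (0, 0), (1, 0)),
  ((1, -1), (0, 0), (1, 0), (0, 1)), ((0, 1), (0, 0), (-1, 1), (-1, 0)),
  ((0, 1), (1, -1), (1, 0), (0, 0)), ((-1, 1), (0, 0), (-1, 0), (0, -1)),
  ((0, -1), (0, 0), (1, -1), (1, 0)), ((0, 0), (1, 0), (-1, 1), (0, -1)),
  ((0, -1), (1, -1), (1, 0), (0, 0)), ((1, -1), (0, 0), (-1, 0), (0, -1)),
  ((0, 1), (0, 0), (1, -1), (1, 0)), ((0, 0), (0, 1), (-1, 0), (1, -1)),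
  ((-1, 1), (0, 0), (1, 0), (0, 1)), ((0, 0), (1, -1), (0, 1), (-1, 0)),
  ((-1, 1), (0, 1), (0, 0), (1, 0)), ((0, -1), (0, 0), (-1, 1), (-1, 0)),
  ((0, 0), (-1, 1), (0, -1), (1, 0)), ((0, 0), (0, -1), (1, 0), (-1, 1))]

def matList : List M4 := [
  (1, 0, 0, 1), (2, 0, 0, 3), (3, 4, 3, 1), (2, 2, 4, 2),
  (4, 0, 0, 4), (1, 3, 4, 3), (4, 4, 2, 1), (1, 2, 1, 3),
  (1, 1, 2, 3), (2, 4, 0, 3), (4, 1, 3, 1), (2, 0, 3, 3),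
  (2, 3, 1, 2), (3, 0, 0, 2), (2, 1, 2, 4), (3, 3, 1, 3),
  (2, 4, 3, 4), (2, 2, 1, 4), (4, 3, 0, 4), (3, 2, 4, 3),
  (4, 0, 4, 4), (4, 1, 2, 2), (0, 1, 4, 3), (2, 3, 4, 4),
  (1, 4, 1, 0), (4, 2, 0, 4), (0, 2, 2, 1), (0, 2, 2, 3),
  (4, 0, 1, 4), (1, 3, 3, 0), (4, 4, 3, 2), (0, 1, 4, 1),
  (4, 2, 1, 2), (1, 1, 3, 4), (4, 3, 4, 2), (3, 1, 0, 2),
  (1, 4, 2, 4), (3, 0, 2, 2), (3, 2, 1, 1), (0, 2, 2, 4),
  (2, 3, 3, 0), (3, 4, 0, 2), (0, 4, 1, 3), (0, 4, 1, 4),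
  (3, 0, 3, 2), (2, 1, 4, 0), (3, 3, 4, 1), (0, 2, 2, 0),
  (2, 0, 2, 3), (0, 3, 3, 4), (3, 1, 1, 4), (0, 1, 4, 0),
  (1, 0, 4, 1), (2, 2, 2, 0), (3, 3, 2, 4), (1, 2, 4, 4),
  (0, 1, 4, 4), (1, 2, 0, 1), (3, 4, 1, 0), (2, 1, 0, 3),
  (3, 3, 3, 0), (2, 4, 1, 0), (4, 3, 1, 1), (4, 1, 4, 0),
  (0, 3, 3, 3), (4, 2, 2, 0), (3, 1, 2, 1), (1, 0, 1, 1),
  (1, 4, 3, 3), (0, 4, 1, 2), (1, 3, 0, 1), (0, 3, 3, 2),
  (0, 4, 1, 0), (0, 1, 4, 2), (1, 2, 3, 2), (4, 4, 1, 0),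
  (1, 1, 1, 2), (2, 4, 2, 2), (0, 2, 2, 2), (1, 1, 4, 0),
  (4, 3, 3, 0), (3, 1, 3, 3), (3, 2, 2, 0), (3, 4, 4, 4),
  (1, 3, 2, 2), (2, 3, 0, 3), (0, 3, 3, 0), (4, 2, 3, 3),
  (2, 0, 1, 3), (1, 4, 4, 2), (3, 2, 0, 2), (2, 1, 3, 2),
  (3, 1, 4, 0), (4, 2, 4, 1), (1, 2, 2, 0), (4, 4, 4, 3),
  (3, 0, 4, 2), (3, 2, 3, 4), (3, 4, 2, 3), (0, 3, 3, 1),
  (2, 4, 4, 1), (2, 2, 3, 1), (0, 4, 1, 1), (2, 1, 1, 1),
  (4, 1, 0, 4), (4, 0, 3, 4), (2, 3, 2, 1), (1, 4, 0, 1),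
  (1, 0, 2, 1), (1, 3, 1, 4), (4, 3, 2, 3), (4, 4, 0, 4),
  (4, 0, 2, 4), (3, 0, 1, 2), (1, 1, 0, 1), (3, 3, 0, 2),
  (4, 1, 1, 3), (1, 0, 3, 1), (2, 2, 0, 3), (2, 0, 4, 3)]

def tabList : List (ℕ × ℕ × ℕ) := [
  (1, 2, 3), (4, 5, 6), (7, 8, 9), (10, 11, 12), (13, 14, 15), (16, 17, 18),
  (19, 20, 10), (14, 21, 22), (23, 0, 24), (25, 19, 26), (15, 27, 1), (28, 29, 30),
  (6, 31, 0), (0, 32, 33), (34, 30, 35), (36, 37, 19), (32, 38, 39), (21, 1, 40),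
  (41, 36, 42), (33, 43, 4), (44, 45, 46), (46, 47, 48), (49, 50, 25), (30, 51, 52),
  (53, 49, 37), (35, 54, 7), (22, 55, 2), (56, 57, 58), (37, 59, 60), (61, 3, 62),
  (38, 4, 63), (64, 35, 65), (66, 46, 57), (12, 67, 36), (2, 68, 69), (70, 12, 49),
  (3, 71, 13), (52, 65, 8), (8, 72, 28), (73, 74, 41), (75, 73, 67), (57, 76, 16),
  (39, 77, 5), (78, 9, 29), (67, 25, 79), (80, 6, 81), (68, 13, 82), (51, 7, 83),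
  (20, 70, 75), (69, 62, 14), (84, 85, 86), (86, 66, 87), (11, 41, 53), (63, 88, 23),
  (89, 44, 90), (91, 63, 31), (71, 92, 93), (59, 10, 73), (94, 33, 77), (18, 95, 66),
  (24, 96, 38), (65, 97, 78), (98, 24, 43), (60, 26, 11), (43, 80, 91), (92, 15, 55),
  (5, 23, 99), (48, 58, 17), (17, 86, 44), (26, 100, 70), (9, 101, 34), (102, 18, 45),
  (47, 16, 84), (99, 81, 32), (103, 104, 51), (82, 105, 21), (106, 52, 107), (93, 82, 27),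
  (31, 94, 98), (40, 108, 68), (58, 89, 102), (109, 40, 71), (79, 42, 20), (74, 79, 100),
  (100, 53, 110), (111, 22, 108), (72, 34, 103), (50, 60, 74), (112, 84, 95), (101, 64, 113),
  (114, 69, 105), (62, 111, 92), (29, 106, 64), (81, 115, 94), (45, 116, 56), (97, 28, 104),
  (117, 87, 76), (76, 102, 112), (55, 114, 61), (42, 110, 59), (87, 90, 47), (116, 48, 85),
  (27, 61, 109), (110, 75, 50), (115, 39, 88), (113, 103, 54), (95, 56, 117), (118, 99, 96),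
  (119, 83, 101), (77, 118, 80), (83, 107, 72), (90, 112, 116), (96, 91, 115), (108, 93, 114),
  (85, 117, 89), (107, 113, 97), (54, 78, 119), (88, 98, 118), (104, 119, 106), (105, 109, 111)]

def parList : List (ℕ × ℕ) := [
  (0, 0), (0, 0), (0, 1), (0, 2), (1, 0), (1, 1), (1, 2), (2, 0),
  (2, 1), (2, 2), (3, 0), (3, 1), (3, 2), (4, 0), (4, 1), (4, 2),
  (5, 0), (5, 1), (5, 2), (6, 0), (6, 1), (7, 1), (7, 2), (8, 0),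
  (8, 2), (9, 0), (9, 2), (10, 1), (11, 0), (11, 1), (11, 2), (12, 1),
  (13, 1), (13, 2), (14, 0), (14, 2), (15, 0), (15, 1), (16, 1), (16, 2),
  (17, 2), (18, 0), (18, 2), (19, 1), (20, 0), (20, 1), (20, 2), (21, 1),
  (21, 2), (22, 0), (22, 1), (23, 1), (23, 2), (24, 0), (25, 1), (26, 1),
  (27, 0), (27, 1), (27, 2), (28, 1), (28, 2), (29, 0), (29, 2), (30, 2),
  (31, 0), (31, 2), (32, 0), (33, 1), (34, 1), (34, 2), (35, 0), (36, 1),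
  (38, 1), (39, 0), (39, 1), (40, 0), (41, 1), (42, 1), (43, 0), (44, 2),
  (45, 0), (45, 2), (46, 2), (47, 2), (50, 0), (50, 1), (50, 2), (51, 2),
  (53, 1), (54, 0), (54, 2), (55, 0), (56, 1), (56, 2), (58, 0), (59, 1),
  (60, 1), (61, 1), (62, 0), (66, 2), (69, 1), (70, 1), (71, 0), (74, 0),
  (74, 1), (75, 1), (76, 0), (76, 2), (79, 1), (81, 0), (84, 2), (85, 0),
  (88, 0), (89, 2), (90, 0), (93, 1), (94, 1), (96, 0), (107, 0), (108, 0)]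

def witList : List ℕ := [
  0, 0, 1, 2, 0, 1, 0, 1, 1, 0, 0, 0, 2, 0, 0, 0, 0, 0, 0, 0,
  0, 0, 0, 0, 0, 0, 0, 0, 0, 0, 0, 0, 0, 0, 0, 0, 0, 0, 1, 1,
  1, 0, 0, 1, 0, 1, 1, 0, 0, 1, 1, 0, 2, 1, 1, 0, 1, 2, 0, 0,
  0, 1, 0, 1, 0, 1, 1, 2, 1, 1, 2, 1, 0, 1, 0, 1, 0, 2, 1, 0,
  1, 0, 0, 1, 0, 0, 0, 1, 0, 0, 0, 2, 0, 0, 0, 1, 0, 1, 0, 0,
  0, 0, 0, 0, 0, 0, 0, 2, 2, 0, 1, 0, 0, 0, 2, 0, 1, 2, 0, 0]

def el (k : ℕ) : Quat := icoList.getD k 0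

def m4 (k : ℕ) : M4 := matList.getD k 0

def next (k : ℕ) : ℕ → ℕ
  | 0 => (tabList.getD k 0).1
  | 1 => (tabList.getD k 0).2.1
  | _ => (tabList.getD k 0).2.2

def par (k : ℕ) : ℕ × ℕ := parList.getD k 0

theorem table_ok : ∀ k : Fin 120, ∀ s : Fin 3, next k s < 120 ∧
    qm (el k) (el (s + 1)) = el (next k s) + el (next k s) ∧
    mm (m4 k) (m4 (s + 1)) = m4 (next k s) := by decide +kernel

theorem par_ok : ∀ k : Fin 120, k.1 = 0 ∨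
    ((par k).1 < k.1 ∧ (par k).2 < 3 ∧ next (par k).1 (par k).2 = k.1) := by decide +kernel

theorem det_ok : ∀ k : Fin 120, (m4 k).1 * (m4 k).2.2.2 - (m4 k).2.1 * (m4 k).2.2.1 = 1 := by
  decide +kernel

theorem cover_ok : ∀ a b c d : ZMod 5, a * d - b * c = 1 → (a, b, c, d) ∈ matList := by
  decide +kernel

theorem length_ok : matList.length = 120 := by decide +kernel

theorem nodup_ok : matList.Nodup := by decide +kernel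

theorem kernel_ok : ∀ k : Fin 120, k.1 = 0 ∨
    (let x := m4 k
     let y := mm x (mm (mm (m4 (witList.getD k 0)) (minv x)) (minv (m4 (witList.getD k 0))))
     let e : M4 := (-1, 0, 0, -1)
     (x = e ∨ mm x x = e ∨ mm x (mm x x) = e ∨ mm x (mm x (mm x (mm x x))) = e) ∨
       (y = e ∨ mm y y = e ∨ mm y (mm y y) = e ∨ mm y (mm y (mm y (mm y y))) = e)) := by
  decide +kernel

end Cfsg.Agent.Perm.Fpf.Ico
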