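import Mathlib
import Cfsg.Agent.Lib.Perm.Fpf.IcoTable

/-!
# A group generated by a tetrahedral frame and a golden element is `SL(2, 5)`
-/

set_option autoImplicit false

namespace Cfsg.Agent.Perm.Fpf

open Ico
open scoped MatrixGroups

theorem five_prime : Fact (Nat.Prime 5) := ⟨by norm_num⟩

/-- a quadruple as a matrix -/
def toMat (q : M4) : Matrix (Fin 2) (Fin 2) (ZMod 5) := !![q.1, q.2.1; q.2.2.1, q.2.2.2]

theorem toMat_mm (p q : M4) : toMat (mm p q) = toMat p * toMat q := by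
  obtain ⟨a, b, c, d⟩ := p
  obtain ⟨a', b', c', d'⟩ := q
  simp [toMat, mm, Matrix.mul_fin_two]

theorem toMat_inj {p q : M4} (e : toMat p = toMat q) : p = q := by
  obtain ⟨a, b, c, d⟩ := p
  obtain ⟨a', b', c', d'⟩ := q
  have h00 := congrFun (congrFun e 0) 0
  have h01 := congrFun (congrFun e 0) 1
  have h10 := congrFun (congrFun e 1) 0
  have h11 := congrFun (congrFun e 1) 1
  simp [toMat] at h00 h01 h10 h11
  simp [h00, h01, h10, h11]

/-- the table of `SL(2, 5)` -/
def toSL (k : Fin 120) : SL(2, ZMod 5) :=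
  ⟨toMat (m4 k), by rw [toMat, Matrix.det_fin_two_of]; exact det_ok k⟩

theorem toSL_mul (k : Fin 120) (s : Fin 3) :
    toSL k * toSL ⟨s + 1, by omega⟩ = toSL ⟨next k s, (table_ok k s).1⟩ :=
  Subtype.ext (((toMat_mm _ _).symm).trans (congrArg toMat (table_ok k s).2.2))

theorem toSL_surjective : Function.Surjective toSL := by
  intro A
  have hd := A.2
  rw [Matrix.det_fin_two] at hd
  obtain ⟨k, hk, e⟩ := List.getElem_of_mem (cover_ok _ _ _ _ hd)
  refine ⟨⟨k, length_ok ▸ hk⟩, Subtype.ext ?_⟩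
  show toMat (m4 k) = (A : Matrix (Fin 2) (Fin 2) (ZMod 5))
  rw [m4, List.getD_eq_getElem _ _ hk, e, toMat]
  exact (Matrix.eta_fin_two _).symm

theorem toSL_zero : toSL 0 = 1 := by
  refine Subtype.ext ?_
  show toMat (m4 0) = 1
  rw [Matrix.one_fin_two]
  rfl

theorem toSL_neg_one : toSL ⟨1, by omega⟩ * toSL ⟨1, by omega⟩ = -1 := by
  refine Subtype.ext ?_
  show toMat (m4 1) * toMat (m4 1) = -(1 : Matrix (Fin 2) (Fin 2) (ZMod 5))
  rw [← toMat_mm, Matrix.one_fin_two, show mm (m4 1) (m4 1) = (-1, 0, 0, -1) by decide +kernel]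
  simp [toMat, Matrix.neg_of]

theorem wit_lt : ∀ k : Fin 120, witList.getD k 0 < 120 := by decide +kernel

theorem gens_top (D : Subgroup SL(2, ZMod 5))
    (hD : ∀ s : Fin 3, toSL ⟨s + 1, by omega⟩ ∈ D) : D = ⊤ := by
  rw [eq_top_iff]
  intro A _
  obtain ⟨k, rfl⟩ := toSL_surjective A
  obtain ⟨k, hk⟩ := k
  induction k using Nat.strong_induction_on with
  | _ k ih =>
    rcases par_ok ⟨k, hk⟩ with e | ⟨hlt, hs, e⟩
    · have e' : k = 0 := e
      subst e'
      rw [show (⟨0, hk⟩ : Fin 120) = 0 from rfl, toSL_zero]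
      exact one_mem D
    · have hlt' : (Ico.par k).1 < k := hlt
      have he := toSL_mul ⟨(Ico.par k).1, hlt'.trans hk⟩ ⟨(Ico.par k).2, hs⟩
      have hk' : (⟨k, hk⟩ : Fin 120)
          = ⟨next (Ico.par k).1 (Ico.par k).2, (table_ok ⟨_, hlt'.trans hk⟩ ⟨_, hs⟩).1⟩ :=
        Fin.ext e.symm
      rw [hk', ← he]
      exact mul_mem (ih _ hlt' _ trivial) (hD _)

variable {G R : Type*} [Group G] [Ring R] {ρ : G →* R}

/-- the value of a pair of integers -/
def evz (ω : R) (p : Zw) : R := (p.1 : R) + (p.2 : R) * ω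

/-- the value of a doubled quaternion -/
def ev (I J ω : R) (q : Quat) : R :=
  qf I J (evz ω q.1) (evz ω q.2.1) (evz ω q.2.2.1) (evz ω q.2.2.2)

theorem evz_add (ω : R) (p q : Zw) : evz ω (p + q) = evz ω p + evz ω q := by
  simp [evz, Int.cast_add, add_mul]; abel

theorem evz_sub (ω : R) (p q : Zw) : evz ω (p - q) = evz ω p - evz ω q := by
  simp [evz, Int.cast_sub, sub_mul]; abel

theorem evz_zm {ω : R} (hω : ω * ω = ω + 1) (p q : Zw) : evz ω (zm p q) = evz ω p * evz ω q := by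
  have hc : ∀ n : ℤ, ω * (n : R) = (n : R) * ω := fun n => (Int.commute_cast ω n).eq
  have hr : ∀ Z : R, ω * (ω * Z) = ω * Z + Z := fun Z => by
    rw [← mul_assoc, hω, add_mul, one_mul]
  have hc' : ∀ (n : ℤ) (Z : R), ω * ((n : R) * Z) = (n : R) * (ω * Z) := fun n Z => by
    rw [← mul_assoc, hc, mul_assoc]
  simp only [evz, zm, Int.cast_add, Int.cast_mul, add_mul, mul_add, mul_assoc, hc, hc', hω, mul_one]
  abel

theorem evz_mem {I J ω : R} (hω : ω ∈ coeff I J) (p : Zw) : evz ω p ∈ coeff I J :=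
  (coeff I J).add_mem (intCast_mem _ _) ((coeff I J).mul_mem (intCast_mem _ _) hω)

theorem ev_qm {I J ω : R} (F : Frame I J) (hω : ω * ω = ω + 1) (hmem : ω ∈ coeff I J) (x y : Quat) :
    ev I J ω (qm x y) = ev I J ω x * ev I J ω y := by
  obtain ⟨x0, x1, x2, x3⟩ := x
  obtain ⟨y0, y1, y2, y3⟩ := y
  simp only [ev, qm]
  rw [F.mul_qf (evz_mem hmem _) (evz_mem hmem _) (evz_mem hmem _) (evz_mem hmem _)]
  simp only [evz_add, evz_sub, evz_zm hω]

theorem ev_add {I J ω : R} (x y : Quat) : ev I J ω (x + y) = ev I J ω x + ev I J ω y := by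
  simp only [ev, qf, Prod.fst_add, Prod.snd_add, evz_add, add_mul]
  abel

theorem iso_of_gold [Finite G] (h : Hyp ρ) {a gI gJ d : G} (T : Tet ρ a gI gJ) {ω : R}
    (hd : Gold ρ gI gJ d ω) (hgen : Subgroup.closure ({gI, a, d} : Set G) = ⊤) :
    Nonempty (G ≃* SL(2, ZMod 5)) := by
  obtain ⟨hω, eω, wd⟩ := hd
  have F := T.frame
  set I := ρ gI
  set J := ρ gJ
  let g : Fin 3 → G := ![gI, a, d]
  have hg : ∀ s : Fin 3, 2 * ρ (g s) = ev I J ω (el (s + 1)) := by
    intro s
    fin_cases s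
    · show 2 * ρ gI = ev I J ω ((0, 0), (2, 0), (0, 0), (0, 0))
      simp [ev, evz, qf, I]
    · show 2 * ρ a = ev I J ω ((-1, 0), (1, 0), (1, 0), (1, 0))
      have e : 2 * ρ a = w ρ a - 1 := by rw [w, add_sub_cancel_right]
      rw [e, T.wa]
      simp [ev, evz, qf, I, J]
      abel
    · show 2 * ρ d = ev I J ω ((-1, 0), (0, 0), (0, 1), (1, -1))
      have e : 2 * ρ d = w ρ d - 1 := by rw [w, add_sub_cancel_right]
      rw [e, wd]
      simp [ev, evz, qf, ← sub_eq_add_neg]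
      abel
  let gen : Fin 3 → G × SL(2, ZMod 5) := fun s => (g s, toSL ⟨s + 1, by omega⟩)
  let D : Subgroup (G × SL(2, ZMod 5)) := Subgroup.closure (Set.range gen)
  let P : Set (G × SL(2, ZMod 5)) :=
    {q | ∃ k : Fin 120, 2 * ρ q.1 = ev I J ω (el k) ∧ q.2 = toSL k}
  have hone : (1 : G × SL(2, ZMod 5)) ∈ P := by
    refine ⟨0, ?_, toSL_zero.symm⟩
    show 2 * ρ 1 = ev I J ω ((2, 0), (0, 0), (0, 0), (0, 0))
    simp [ev, evz, qf]
  have hstep : ∀ q ∈ P, ∀ s, q * gen s ∈ P := by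
    rintro ⟨x, m⟩ ⟨k, hk, rfl⟩ s
    refine ⟨⟨next k s, (table_ok k s).1⟩, ?_, toSL_mul k s⟩
    refine sub_eq_zero.1 (h.smul_two ?_)
    show 2 * (2 * ρ (x * g s) - ev I J ω (el (next k s))) = 0
    have hk' : 2 * ρ x = ev I J ω (el k) := hk
    have e : ev I J ω (el (next k s)) + ev I J ω (el (next k s))
        = ev I J ω (el k) * ev I J ω (el (s + 1)) := by
      rw [← ev_add, ← (table_ok k s).2.1, ev_qm F eω hω]
    rw [mul_sub, two_mul (ev I J ω (el (next k s))), e, ← hk', ← hg, map_mul]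
    noncomm_ring
  haveI : Finite SL(2, ZMod 5) := Finite.of_surjective _ toSL_surjective
  have hD : ∀ q ∈ D, q ∈ P := by
    intro q hq
    have hq' : q ∈ Submonoid.closure (Set.range gen) := by
      rw [← Subgroup.closure_toSubmonoid_of_finite]
      exact hq
    induction hq' using Submonoid.closure_induction_right with
    | one => exact hone
    | mul_right x hx y hy ih =>
      obtain ⟨s, rfl⟩ := hy
      refine hstep x (ih ?_) s
      have : (x * gen s) * (gen s)⁻¹ ∈ D := mul_mem hq (inv_mem (Subgroup.subset_closure ⟨s, rfl⟩))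
      simpa using this
  have hmemD : ∀ s, gen s ∈ D := fun s => Subgroup.subset_closure ⟨s, rfl⟩
  have hsurj2 : Function.Surjective ((MonoidHom.snd G SL(2, ZMod 5)).comp D.subtype) := by
    rw [← MonoidHom.range_eq_top]
    exact gens_top _ fun s => ⟨⟨gen s, hmemD s⟩, rfl⟩
  have hinj2 : Function.Injective ((MonoidHom.snd G SL(2, ZMod 5)).comp D.subtype) := by
    refine (injective_iff_map_eq_one _).2 ?_
    rintro ⟨⟨x, m⟩, hq⟩ (hm : m = 1)
    obtain ⟨k, hk, hk'⟩ := hD _ hq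
    have hk0 : k = 0 := by
      have e1 : toMat (m4 k) = toMat (m4 0) := by
        have e2 : toSL k = toSL 0 := by rw [← hk', toSL_zero]; exact hm
        exact congrArg Subtype.val e2
      have e3 := toMat_inj e1
      rw [m4, m4, List.getD_eq_getElem _ _ (length_ok.symm ▸ k.2),
        List.getD_eq_getElem _ _ (length_ok.symm ▸ Nat.succ_pos _)] at e3
      exact Fin.ext ((List.Nodup.getElem_inj_iff nodup_ok).1 e3)
    subst hk0
    have hx : x = 1 := by
      apply h.inj
      refine sub_eq_zero.1 (h.smul_two ?_)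
      have hk2 : 2 * ρ x = ev I J ω ((2, 0), (0, 0), (0, 0), (0, 0)) := hk
      rw [mul_sub, hk2, mul_one]
      simp [ev, evz, qf]
    subst hx
    exact Subtype.ext (Prod.ext rfl hm)
  let e : D ≃* SL(2, ZMod 5) := MulEquiv.ofBijective _ ⟨hinj2, hsurj2⟩
  let f : D →* G := (MonoidHom.fst G SL(2, ZMod 5)).comp D.subtype
  have hsurj : Function.Surjective f := by
    rw [← MonoidHom.range_eq_top, eq_top_iff, ← hgen, Subgroup.closure_le]
    rintro y (rfl | rfl | rfl)
    exacts [⟨⟨gen 0, hmemD 0⟩, rfl⟩, ⟨⟨gen 1, hmemD 1⟩, rfl⟩, ⟨⟨gen 2, hmemD 2⟩, rfl⟩]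
  have hneg : f (e.symm (-1)) = gI * gI := by
    have : e.symm (-1) = ⟨gen 0, hmemD 0⟩ * ⟨gen 0, hmemD 0⟩ := by
      rw [MulEquiv.symm_apply_eq]
      exact toSL_neg_one.symm
    rw [this, map_mul]
    rfl
  have hinj : Function.Injective f := by
    refine (injective_iff_map_eq_one _).2 fun q hq => by_contra fun hne => ?_
    obtain ⟨k, hk⟩ := toSL_surjective (e q)
    let N : Subgroup SL(2, ZMod 5) := (f.comp e.symm.toMonoidHom).ker
    have hN : N.Normal := inferInstance
    have hkN : toSL k ∈ N := by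
      show f (e.symm (toSL k)) = 1
      rw [hk, MulEquiv.symm_apply_apply, hq]
    have hk0 : k.1 ≠ 0 := by
      intro e0
      rw [Fin.ext e0 (b := 0), toSL_zero, eq_comm, MulEquiv.map_eq_one_iff] at hk
      exact hne hk
    have hbad : (-1 : SL(2, ZMod 5)) ∈ N := by
      have hpow : ∀ (X : SL(2, ZMod 5)) (q : M4), X ∈ N →
          (X : Matrix (Fin 2) (Fin 2) (ZMod 5)) = toMat q →
          q = (-1, 0, 0, -1) ∨ mm q q = (-1, 0, 0, -1) ∨ mm q (mm q q) = (-1, 0, 0, -1) ∨
            mm q (mm q (mm q (mm q q))) = (-1, 0, 0, -1) → (-1 : SL(2, ZMod 5)) ∈ N := by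
        intro X q hX hXq hcase
        have hm1 : ∀ Y : SL(2, ZMod 5),
            (Y : Matrix (Fin 2) (Fin 2) (ZMod 5)) = toMat (-1, 0, 0, -1) → Y = -1 := fun Y hY => by
          refine Subtype.ext (hY.trans ?_)
          show toMat (-1, 0, 0, -1) = -(1 : Matrix (Fin 2) (Fin 2) (ZMod 5))
          rw [Matrix.one_fin_two]; simp [toMat, Matrix.neg_of]
        rcases hcase with c | c | c | c
        · rw [← hm1 X (by rw [hXq, c])]; exact hX
        · rw [← hm1 (X * X) (by rw [Matrix.SpecialLinearGroup.coe_mul, hXq, ← toMat_mm, c])]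
          exact mul_mem hX hX
        · rw [← hm1 (X * (X * X)) (by
            simp only [Matrix.SpecialLinearGroup.coe_mul, hXq, ← toMat_mm, c])]
          exact mul_mem hX (mul_mem hX hX)
        · rw [← hm1 (X * (X * (X * (X * X)))) (by
            simp only [Matrix.SpecialLinearGroup.coe_mul, hXq, ← toMat_mm, c])]
          exact mul_mem hX (mul_mem hX (mul_mem hX (mul_mem hX hX)))
      rcases kernel_ok k with e0 | c | c
      · exact absurd e0 hk0
      · exact hpow (toSL k) (m4 k) hkN rfl c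
      · have hinv : ∀ j : Fin 120,
            (((toSL j)⁻¹ : SL(2, ZMod 5)) : Matrix (Fin 2) (Fin 2) (ZMod 5)) = toMat (minv (m4 j)) := by
          intro j
          rw [Matrix.SpecialLinearGroup.coe_inv]
          show Matrix.adjugate (toMat (m4 j)) = _
          simp [toMat, minv, Matrix.adjugate_fin_two_of]
        set w := witList.getD k 0 with hw
        have hwlt : w < 120 := wit_lt k
        refine hpow (toSL k * (toSL ⟨w, hwlt⟩ * (toSL k)⁻¹ * (toSL ⟨w, hwlt⟩)⁻¹)) _
          (mul_mem hkN (hN.conj_mem _ (inv_mem hkN) _)) ?_ c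
        simp only [Matrix.SpecialLinearGroup.coe_mul, hinv, toMat_mm, hw]
        rfl
    have h1 : gI * gI = 1 := by
      rw [← hneg]
      exact hbad
    have h2 : (-1 : R) = 1 := by rw [← F.II, ← map_mul, h1, map_one]
    exact h.two_ne (by rw [← one_add_one_eq_two]; nth_rw 1 [← h2]; exact neg_add_cancel 1)
  exact ⟨(MulEquiv.ofBijective f ⟨hinj, hsurj⟩).symm.trans e⟩

end Cfsg.Agent.Perm.Fpf
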