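import Mathlib
import Cfsg.Agent.Lib.Perm.Fpf.IcoIso

/-!
# `SL(2, 5)` has at most 120 automorphisms
-/

set_option autoImplicit false

namespace Cfsg.Agent.Perm.Fpf

open scoped MatrixGroups

/-- the entries of a matrix -/
def quad (A : SL(2, ZMod 5)) : Ico.M4 := (A.1 0 0, A.1 0 1, A.1 1 0, A.1 1 1)

theorem toMat_quad (A : SL(2, ZMod 5)) : toMat (quad A) = A.1 := (Matrix.eta_fin_two _).symm

theorem quad_inj {A B : SL(2, ZMod 5)} (e : quad A = quad B) : A = B :=
  Subtype.ext (by rw [← toMat_quad A, ← toMat_quad B, e])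

theorem quad_mul (A B : SL(2, ZMod 5)) : quad (A * B) = Ico.mm (quad A) (quad B) :=
  toMat_inj (by rw [toMat_quad, toMat_mm, toMat_quad, toMat_quad]; rfl)

theorem quad_one : quad 1 = (1, 0, 0, 1) := by decide +kernel

theorem quad_neg_one : quad (-1) = (-1, 0, 0, -1) := by decide +kernel

theorem quad_mem (A : SL(2, ZMod 5)) : quad A ∈ Ico.matList :=
  Ico.cover_ok _ _ _ _ (by have h := A.2; rwa [Matrix.det_fin_two] at h)

/-- a generator of order four -/
def genX : SL(2, ZMod 5) := ⟨toMat (0, -1, 1, 0), by rw [toMat, Matrix.det_fin_two_of]; decide⟩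

/-- a generator of order three -/
def genY : SL(2, ZMod 5) := ⟨toMat (0, -1, 1, -1), by rw [toMat, Matrix.det_fin_two_of]; decide⟩

theorem quad_genX : quad genX = (0, -1, 1, 0) := toMat_inj (toMat_quad genX)

theorem quad_genY : quad genY = (0, -1, 1, -1) := toMat_inj (toMat_quad genY)

/-- the relations satisfied by the generators -/
def relX (q : Ico.M4) : Bool := Ico.mm q q == (-1, 0, 0, -1)

/-- the relations satisfied by the generators -/
def relY (q : Ico.M4) : Bool := Ico.mm q (Ico.mm q q) == (1, 0, 0, 1) && q != (1, 0, 0, 1)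

/-- the relations satisfied by the generators -/
def relXY (q : Ico.M4 × Ico.M4) : Bool :=
  let z := Ico.mm q.1 q.2
  Ico.mm z (Ico.mm z (Ico.mm z (Ico.mm z z))) == (-1, 0, 0, -1) && z != (-1, 0, 0, -1)

/-- the possible images of the generators -/
def imgList : List (Ico.M4 × Ico.M4) :=
  ((Ico.matList.filter relX) ×ˢ (Ico.matList.filter relY)).filter relXY

theorem imgList_length : imgList.length = 120 := by decide +kernel

theorem gen_rel : relX (quad genX) = true ∧ relY (quad genY) = true ∧
    relXY (quad genX, quad genY) = true := by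
  rw [quad_genX, quad_genY]; decide +kernel

theorem eq_neg_one_of_sq (A : SL(2, ZMod 5)) (h : A * A = 1) (h1 : A ≠ 1) : A = -1 := by
  have key : ∀ q ∈ Ico.matList, Ico.mm q q = (1, 0, 0, 1) → q = (1, 0, 0, 1) ∨ q = (-1, 0, 0, -1) := by
    decide +kernel
  have hq : Ico.mm (quad A) (quad A) = (1, 0, 0, 1) := by rw [← quad_mul, h, quad_one]
  rcases key _ (quad_mem A) hq with e | e
  · exact absurd (quad_inj (e.trans quad_one.symm)) h1
  · exact quad_inj (e.trans quad_neg_one.symm)

theorem aut_neg_one (φ : MulAut SL(2, ZMod 5)) : φ (-1) = -1 := by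
  refine eq_neg_one_of_sq _ ?_ ?_
  · rw [← map_mul, show (-1 : SL(2, ZMod 5)) * -1 = 1 from quad_inj (by decide +kernel), map_one]
  · intro e
    rw [MulEquiv.map_eq_one_iff] at e
    exact absurd (congrArg quad e) (by decide +kernel)

theorem gen_closure : Subgroup.closure ({genX, genY} : Set SL(2, ZMod 5)) = ⊤ := by
  refine gens_top _ fun s => ?_
  set D := Subgroup.closure ({genX, genY} : Set SL(2, ZMod 5))
  have hx : genX ∈ D := Subgroup.subset_closure (Or.inl rfl)
  have hy : genY ∈ D := Subgroup.subset_closure (Or.inr rfl)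
  have hm : ∀ A ∈ D, ∀ k : Fin 120, quad A = Ico.m4 k → toSL k ∈ D := fun A hA k e => by
    rw [← quad_inj (e.trans (toMat_inj (toMat_quad (toSL k))).symm)]
    exact hA
  fin_cases s
  · refine hm (genY * genY * genX * genY * genX * genY * genY * genX * genY * genX * genY * genY)
      (by repeat (first | exact hy | exact hx | apply mul_mem)) _ ?_
    rw [quad_mul, quad_mul, quad_mul, quad_mul, quad_mul, quad_mul, quad_mul, quad_mul, quad_mul,
      quad_mul, quad_mul, quad_genX, quad_genY]
    decide +kernel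
  · refine hm (genX * genY * genY * genX * genY * genX * genY * genX)
      (by repeat (first | exact hy | exact hx | apply mul_mem)) _ ?_
    rw [quad_mul, quad_mul, quad_mul, quad_mul, quad_mul, quad_mul, quad_mul, quad_genX, quad_genY]
    decide +kernel
  · refine hm (genX * genY * genX * genY * genY * genX * genY)
      (by repeat (first | exact hy | exact hx | apply mul_mem)) _ ?_
    rw [quad_mul, quad_mul, quad_mul, quad_mul, quad_mul, quad_mul, quad_genX, quad_genY]
    decide +kernel

theorem finite_sl25 : Finite SL(2, ZMod 5) := Finite.of_surjective _ toSL_surjective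

theorem card_sl25 : Nat.card SL(2, ZMod 5) = 120 := by
  have hinj : Function.Injective toSL := fun i j e => by
    have e3 := toMat_inj (congrArg Subtype.val e)
    rw [Ico.m4, Ico.m4, List.getD_eq_getElem _ _ (Ico.length_ok.symm ▸ i.2),
      List.getD_eq_getElem _ _ (Ico.length_ok.symm ▸ j.2)] at e3
    exact Fin.ext ((List.Nodup.getElem_inj_iff Ico.nodup_ok).1 e3)
  rw [← Nat.card_eq_of_bijective toSL ⟨hinj, toSL_surjective⟩, Nat.card_fin]

theorem card_mulAut_le : Nat.card (MulAut SL(2, ZMod 5)) ≤ 120 := by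
  classical
  have hmem : ∀ φ : MulAut SL(2, ZMod 5), (quad (φ genX), quad (φ genY)) ∈ imgList.toFinset := by
    intro φ
    obtain ⟨hX, hY, hXY⟩ := gen_rel
    simp only [relX, relY, relXY, beq_iff_eq, bne_iff_ne, ne_eq, Bool.and_eq_true,
      ← quad_mul, ← quad_one, ← quad_neg_one] at hX hY hXY
    simp only [List.mem_toFinset, imgList, List.mem_filter, List.mem_product, relX, relY, relXY,
      beq_iff_eq, bne_iff_ne, ne_eq, Bool.and_eq_true, ← quad_mul, ← quad_one, ← quad_neg_one]
    refine ⟨⟨⟨quad_mem _, ?_⟩, quad_mem _, ?_, ?_⟩, ?_, ?_⟩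
    · rw [← map_mul, quad_inj hX, aut_neg_one]
    · rw [← map_mul, ← map_mul, quad_inj hY.1, map_one]
    · intro e
      exact hY.2 (congrArg quad (φ.injective ((quad_inj e).trans (map_one φ).symm)))
    · simp only [← map_mul]
      rw [quad_inj hXY.1, aut_neg_one]
    · intro e
      rw [← map_mul] at e
      exact hXY.2 (congrArg quad (φ.injective ((quad_inj e).trans (aut_neg_one φ).symm)))
  refine (Nat.card_le_card_of_injective
    (β := imgList.toFinset) (fun φ => ⟨_, hmem φ⟩) fun φ ψ e => ?_).trans ?_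
  · have e' := congrArg Subtype.val e
    rw [Prod.mk.injEq] at e'
    refine MulEquiv.toMonoidHom_injective (MonoidHom.eq_of_eqOn_dense gen_closure ?_)
    rintro _ (rfl | rfl)
    exacts [quad_inj e'.1, quad_inj e'.2]
  · rw [Nat.card_eq_finsetCard]
    exact imgList.toFinset_card_le.trans imgList_length.le

end Cfsg.Agent.Perm.Fpf
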