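import Mathlib
import Cfsg.Agent.Lib.Perm.Fpf.Pairs
import Cfsg.Agent.Lib.Forms.DicksonList

/-!
# Two elements of order three in a fixed-point-free linear group

They lie in `SL(2, F)` for a finite field `F`, so by Klein's classification the order of their
product is restricted.
-/

set_option autoImplicit false

namespace Cfsg.Agent.Perm.Fpf

open scoped MatrixGroups

variable {G : Type*} [Group G]

theorem even_perm_four : ∀ σ : Equiv.Perm (Fin 4), Equiv.Perm.sign σ = 1 → σ ^ 2 = 1 ∨ σ ^ 3 = 1 := by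
  decide +kernel

theorem even_perm_five :
    ∀ σ : Equiv.Perm (Fin 5), Equiv.Perm.sign σ = 1 → σ ^ 2 = 1 ∨ σ ^ 3 = 1 ∨ σ ^ 5 = 1 := by
  decide +kernel

theorem sign_eq_one_of_cube {n : ℕ} (σ : Equiv.Perm (Fin n)) (h : σ ^ 3 = 1) :
    Equiv.Perm.sign σ = 1 := by
  have h1 := congrArg Equiv.Perm.sign h
  rw [map_pow, map_one] at h1
  exact (by decide : ∀ x : ℤˣ, x ^ 3 = 1 → x = 1) _ h1

theorem dihedral_comm {n : ℕ} (x y : DihedralGroup n) (hx : x ^ 3 = 1) (hy : y ^ 3 = 1) :
    Commute x y := by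
  have h : ∀ z : DihedralGroup n, z ^ 3 = 1 → ∃ i, z = DihedralGroup.r i := by
    rintro (i | i) hz
    · exact ⟨i, rfl⟩
    · rw [pow_three, DihedralGroup.sr_mul_self, mul_one] at hz
      rw [DihedralGroup.one_def] at hz
      cases hz
  obtain ⟨i, rfl⟩ := h x hx
  obtain ⟨j, rfl⟩ := h y hy
  show _ * _ = _ * _
  rw [DihedralGroup.r_mul_r, DihedralGroup.r_mul_r, add_comm]

section Closed

variable {K W : Type*} [Field K] [IsAlgClosed K] [AddCommGroup W] [Module K W]
  [FiniteDimensional K W] [Nontrivial W]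

theorem exists_plane (σ : G →* Module.End K W) (hfix : ∀ g v, σ g v = v → v ≠ 0 → g = 1)
    {a b : G} (ha : Ord3 a) (hb : Ord3 b) (hab : ¬ Commute a b) :
    ∃ (v : W) (ω τ : K), ω * ω + ω + 1 = 0 ∧ LinearIndependent K ![v, σ b v] ∧
      σ a v = ω • v ∧ σ a (σ b v) = (τ - 1 - ω) • v + (-1 - ω) • σ b v ∧
      σ b (σ b v) = -v - σ b v := by
  set A := σ a with hA
  set B := σ b with hB
  have hq : ∀ {g : G}, Ord3 g → ∀ u : W, σ g (σ g u) + σ g u + u = 0 := by
    intro g hg u
    by_contra hne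
    refine hg.2 (hfix g _ ?_ hne)
    have e : σ g (σ g (σ g u)) = u := by
      rw [← Module.End.mul_apply, ← Module.End.mul_apply, ← map_mul, ← map_mul,
        ← pow_three', hg.1, map_one, Module.End.one_apply]
    rw [map_add, map_add, e]; abel
  have hAA : A * A + A + 1 = 0 := LinearMap.ext fun u => hq ha u
  have hBB : B * B + B + 1 = 0 := LinearMap.ext fun u => hq hb u
  set t := 1 + A + B + A * B + B * A with ht
  have hAt : A * t = t * A := by
    refine sub_eq_zero.1 ?_
    have e : A * t - t * A = (A * A + A + 1) * B - B * (A * A + A + 1) := by rw [ht]; noncomm_ring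
    rw [e, hAA, zero_mul, mul_zero, sub_zero]
  obtain ⟨τ, hτ⟩ := Module.End.exists_eigenvalue t
  have hinv : ∀ u ∈ t.eigenspace τ, A u ∈ t.eigenspace τ := by
    intro u hu
    rw [Module.End.mem_eigenspace_iff] at hu ⊢
    rw [← Module.End.mul_apply, ← hAt, Module.End.mul_apply, hu, map_smul]
  haveI : Nontrivial (t.eigenspace τ) := Submodule.nontrivial_iff_ne_bot.2 hτ
  obtain ⟨ω, hω⟩ := Module.End.exists_eigenvalue (A.restrict hinv)
  obtain ⟨⟨v, hv⟩, hv'⟩ := hω.exists_hasEigenvector
  have hv0 : v ≠ 0 := fun e => hv'.2 (Subtype.ext e)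
  have hAv : A v = ω • v := congrArg Subtype.val hv'.apply_eq_smul
  have htv : t v = τ • v := Module.End.mem_eigenspace_iff.1 hv
  have hω2 : ω * ω + ω + 1 = 0 := by
    have e := hq ha v
    rw [← hA, hAv, map_smul, hAv, smul_smul] at e
    have : (ω * ω + ω + 1) • v = 0 := by rw [add_smul, add_smul, one_smul, e]
    exact (smul_eq_zero.1 this).resolve_right hv0
  refine ⟨v, ω, τ, hω2, ?_, hAv, ?_, ?_⟩
  · refine LinearIndependent.pair_iff' hv0 |>.2 fun c hc => hab ?_
    have e : σ (a * b) v = σ (b * a) v := by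
      rw [map_mul, map_mul, Module.End.mul_apply, Module.End.mul_apply, ← hA, ← hB, ← hc, map_smul,
        hAv, map_smul, ← hc, smul_smul, smul_smul, mul_comm]
    refine inv_mul_eq_one.1 (hfix ((a * b)⁻¹ * (b * a)) v ?_ hv0)
    rw [map_mul, Module.End.mul_apply, ← e, ← Module.End.mul_apply, ← map_mul, inv_mul_cancel,
      map_one, Module.End.one_apply]
  · have e : t v = v + ω • v + B v + A (B v) + ω • B v := by
      simp only [ht, LinearMap.add_apply, Module.End.one_apply, Module.End.mul_apply, hAv, map_smul]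
    rw [htv] at e
    rw [sub_smul, sub_smul, one_smul, sub_smul, neg_smul, one_smul, e]
    abel
  · have e := hq hb v
    rw [add_assoc, add_eq_zero_iff_eq_neg] at e
    rw [hB, e]; abel

end Closed

section Finite

variable [Finite G] {r : ℕ} [hr : Fact r.Prime] {V : Type*} [AddCommGroup V] [Module (ZMod r) V]
  [Finite V] [Nontrivial V]

theorem isUnit_sub_one (ρ : G →* Module.End (ZMod r) V)
    (hfix : ∀ g v, ρ g v = v → v ≠ 0 → g = 1) {g : G} (hg : g ≠ 1) : IsUnit (ρ g - 1) := by
  rw [Module.End.isUnit_iff, ← Finite.injective_iff_bijective]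
  refine (injective_iff_map_eq_zero _).2 fun v hv => by_contra fun hne => hg (hfix g v ?_ hne)
  rwa [LinearMap.sub_apply, Module.End.one_apply, sub_eq_zero] at hv

theorem not_dvd_card (ρ : G →* Module.End (ZMod r) V)
    (hfix : ∀ g v, ρ g v = v → v ≠ 0 → g = 1) : ¬ r ∣ Nat.card G := by
  intro hd
  obtain ⟨g, hg⟩ := exists_prime_orderOf_dvd_card' r hd
  have hg1 : g ≠ 1 := by intro e; rw [e, orderOf_one] at hg; exact hr.out.one_lt.ne hg
  haveI : CharP (Module.End (ZMod r) V) r :=
    charP_of_injective_algebraMap (algebraMap (ZMod r) (Module.End (ZMod r) V)).injective r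
  have h0 : (ρ g - 1) ^ r = 0 := by
    rw [sub_pow_char_of_commute r (Commute.one_right _), one_pow, ← map_pow, show g ^ r = 1 from hg ▸ pow_orderOf_eq_one g,
      map_one, sub_self]
  exact not_isUnit_zero (h0 ▸ (isUnit_sub_one ρ hfix hg1).pow r)

/-- the order of the product of two elements of order three -/
theorem pair_order (ρ : G →* Module.End (ZMod r) V)
    (hfix : ∀ g v, ρ g v = v → v ≠ 0 → g = 1) (h2r : r ≠ 2) {a b : G} (ha : Ord3 a) (hb : Ord3 b)
    (hab : ¬ Commute a b) : (a * b) ^ 4 = 1 ∨ (a * b) ^ 6 = 1 ∨ (a * b) ^ 10 = 1 := by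
  classical
  let K := AlgebraicClosure (ZMod r)
  let bs := Module.finBasis (ZMod r) V
  let σ : G →* Module.End K (Fin (Module.finrank (ZMod r) V) → K) :=
    (Matrix.toLinAlgEquiv' (R := K)).toMonoidHom.comp
      (((algebraMap (ZMod r) K).mapMatrix).toMonoidHom.comp
        ((LinearMap.toMatrixAlgEquiv bs).toMonoidHom.comp ρ))
  have hσ : ∀ g, g ≠ 1 → IsUnit (σ g - 1) := by
    intro g hg
    have h := ((((isUnit_sub_one ρ hfix hg).map (LinearMap.toMatrixAlgEquiv bs)).map
      (algebraMap (ZMod r) K).mapMatrix).map (Matrix.toLinAlgEquiv' (R := K)))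
    rw [map_sub, map_sub, map_sub, map_one, map_one, map_one] at h
    exact h
  have hfixσ : ∀ g v, σ g v = v → v ≠ 0 → g = 1 := by
    intro g v hv hv0
    by_contra hg
    obtain ⟨u, hu⟩ := hσ g hg
    refine hv0 ?_
    have h1 : ((u⁻¹).val * u.val) v = 0 := by
      rw [Module.End.mul_apply, hu, LinearMap.sub_apply, Module.End.one_apply, hv, sub_self, map_zero]
    rwa [Units.inv_mul, Module.End.one_apply] at h1
  haveI : Nonempty (Fin (Module.finrank (ZMod r) V)) := ⟨⟨0, Module.finrank_pos⟩⟩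
  obtain ⟨v, ω, τ, hω, hind, hav, habv, hbbv⟩ := exists_plane σ hfixσ ha hb hab
  -- the finite field
  let F : IntermediateField (ZMod r) K := IntermediateField.adjoin (ZMod r) {ω, τ}
  haveI : FiniteDimensional (ZMod r) F :=
    IntermediateField.finiteDimensional_adjoin fun x _ => Algebra.IsIntegral.isIntegral x
  haveI : Finite F := Module.finite_of_finite (ZMod r)
  haveI : Fintype F := Fintype.ofFinite F
  haveI : CharP F r := charP_of_injective_algebraMap (algebraMap (ZMod r) F).injective r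
  have h2 : (2 : F) ≠ 0 := by
    intro e
    have : (r : ℕ) ∣ 2 := (CharP.cast_eq_zero_iff F r 2).1 (by exact_mod_cast e)
    exact h2r ((Nat.prime_dvd_prime_iff_eq hr.out Nat.prime_two).1 this)
  let ω' : F := ⟨ω, IntermediateField.subset_adjoin _ _ (Or.inl rfl)⟩
  let τ' : F := ⟨τ, IntermediateField.subset_adjoin _ _ (Or.inr rfl)⟩
  have hω' : ω' * ω' + ω' + 1 = 0 := Subtype.ext hω
  let MA : SL(2, F) := ⟨!![ω', τ' - 1 - ω'; 0, -1 - ω'], by
    rw [Matrix.det_fin_two_of]; linear_combination -hω'⟩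
  let MB : SL(2, F) := ⟨!![0, -1; 1, -1], by rw [Matrix.det_fin_two_of]; ring⟩
  -- the correspondence
  let Ψ : (Fin 2 → F) → (Fin (Module.finrank (ZMod r) V) → K) :=
    fun x => (x 0 : K) • v + (x 1 : K) • σ b v
  let Rel : Subgroup (G × SL(2, F)) :=
    { carrier := {q | ∀ x, σ q.1 (Ψ x) = Ψ (Matrix.mulVec (q.2 : Matrix (Fin 2) (Fin 2) F) x)}
      one_mem' := fun x => by simp
      mul_mem' := fun {p q} hp hq x => by
        show σ (p.1 * q.1) (Ψ x) = Ψ (Matrix.mulVec ((p.2 * q.2 : SL(2, F)) : Matrix _ _ F) x)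
        rw [map_mul, Module.End.mul_apply, hq, hp, Matrix.SpecialLinearGroup.coe_mul,
          Matrix.mulVec_mulVec]
      inv_mem' := fun {q} hq x => by
        show σ q.1⁻¹ (Ψ x) = Ψ (Matrix.mulVec ((q.2⁻¹ : SL(2, F)) : Matrix _ _ F) x)
        have e := hq (Matrix.mulVec ((q.2⁻¹ : SL(2, F)) : Matrix _ _ F) x)
        rw [Matrix.mulVec_mulVec, ← Matrix.SpecialLinearGroup.coe_mul, mul_inv_cancel,
          Matrix.SpecialLinearGroup.coe_one, Matrix.one_mulVec] at e
        rw [← e, ← Module.End.mul_apply, ← map_mul, inv_mul_cancel, map_one,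
          Module.End.one_apply] }
  have hA : (a, MA) ∈ Rel := fun x => by
    simp only [MA, Ψ, map_add, map_smul, hav, habv, Matrix.mulVec, dotProduct, Fin.sum_univ_two]
    simp [ω', τ', smul_smul, smul_add, add_smul]
    module
  have hB : (b, MB) ∈ Rel := fun x => by
    simp only [MB, Ψ, map_add, map_smul, hbbv, Matrix.mulVec, dotProduct, Fin.sum_univ_two]
    simp [smul_smul, smul_add, add_smul]
    module
  let L : Subgroup (G × SL(2, F)) := Subgroup.closure {(a, MA), (b, MB)}
  have hLR : L ≤ Rel := (Subgroup.closure_le _).2 (by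
    rintro q (rfl | rfl)
    exacts [hA, hB])
  have hΨ : ∀ x y, Ψ x = Ψ y → x = y := by
    intro x y e
    have e' : ((x 0 : K) - y 0) • v + ((x 1 : K) - y 1) • σ b v = 0 := by
      rw [sub_smul, sub_smul, ← sub_eq_zero.2 e]; simp only [Ψ]; abel
    have := LinearIndependent.pair_iff.1 hind _ _ e'
    ext i
    fin_cases i
    · exact sub_eq_zero.1 this.1
    · exact sub_eq_zero.1 this.2
  have hv0 : v ≠ 0 := hind.ne_zero 0
  have hfst : Function.Injective ((MonoidHom.fst G SL(2, F)).comp L.subtype) := by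
    refine (injective_iff_map_eq_one _).2 ?_
    rintro ⟨⟨g, M⟩, hq⟩ (hg : g = 1)
    subst hg
    have hR := hLR hq
    have hM : M = 1 := by
      refine Subtype.ext (Matrix.ext_iff_mulVec.2 fun x => ?_)
      have e := hR x
      rw [show ((1 : G), M).1 = 1 from rfl, map_one, Module.End.one_apply] at e
      rw [Matrix.SpecialLinearGroup.coe_one, Matrix.one_mulVec]
      exact (hΨ _ _ e).symm
    subst hM
    rfl
  have hsnd : ∀ q ∈ L, q.2 = 1 → q.1 = 1 := by
    rintro ⟨g, M⟩ hq (hM : M = 1)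
    subst hM
    refine hfixσ g v ?_ hv0
    have e := hLR hq ![1, 0]
    rw [Matrix.SpecialLinearGroup.coe_one, Matrix.one_mulVec] at e
    simpa [Ψ] using e
  let H := L.map (MonoidHom.snd G SL(2, F))
  haveI : Finite L := Finite.of_injective _ hfst
  have hHcard : Nat.card (H.map (Forms.KleinPSL.pi F)) ∣ Nat.card G :=
    (Subgroup.card_map_dvd H _).trans ((Subgroup.card_map_dvd L _).trans
      (Subgroup.card_dvd_of_injective _ hfst))
  set H' := H.map (Forms.KleinPSL.pi F) with hH'
  have hN : ∀ g : H', orderOf g ≠ r := fun g e =>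
    not_dvd_card ρ hfix ((e ▸ orderOf_dvd_natCard g).trans hHcard)
  have hT := (Forms.DicksonAction.twoPt (F := F) r).subgroup H'
  have hmemA : Forms.KleinPSL.pi F MA ∈ H' :=
    ⟨MA, ⟨(a, MA), Subgroup.subset_closure (Or.inl rfl), rfl⟩, rfl⟩
  have hmemB : Forms.KleinPSL.pi F MB ∈ H' :=
    ⟨MB, ⟨(b, MB), Subgroup.subset_closure (Or.inr rfl), rfl⟩, rfl⟩
  set A' : H' := ⟨_, hmemA⟩ with hA'
  set B' : H' := ⟨_, hmemB⟩ with hB'
  have hLA : (a, MA) ∈ L := Subgroup.subset_closure (Or.inl rfl)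
  have hLB : (b, MB) ∈ L := Subgroup.subset_closure (Or.inr rfl)
  have hcubeA : MA ^ 3 = 1 := by
    have h' := pow_mem hLA 3
    rw [Prod.pow_mk, ha.1] at h'
    have h'' : (⟨_, h'⟩ : L) = 1 := hfst (by simp)
    exact congrArg Prod.snd (congrArg Subtype.val h'')
  have hcubeB : MB ^ 3 = 1 := by
    have h' := pow_mem hLB 3
    rw [Prod.pow_mk, hb.1] at h'
    have h'' : (⟨_, h'⟩ : L) = 1 := hfst (by simp)
    exact congrArg Prod.snd (congrArg Subtype.val h'')
  have hA3 : A' ^ 3 = 1 := Subtype.ext (by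
    rw [SubgroupClass.coe_pow, hA', ← map_pow, hcubeA, map_one]; rfl)
  have hB3 : B' ^ 3 = 1 := Subtype.ext (by
    rw [SubgroupClass.coe_pow, hB', ← map_pow, hcubeB, map_one]; rfl)
  have hnc : ¬ Commute A' B' := by
    intro hc
    have e : Forms.KleinPSL.pi F (MA * MB) = Forms.KleinPSL.pi F (MB * MA) := by
      rw [map_mul, map_mul]; exact congrArg Subtype.val hc.eq
    rcases Forms.KleinPSL.pi_eq_iff.1 e with e | e
    · apply hab
      refine inv_mul_eq_one.1 (hsnd ((a * b)⁻¹ * (b * a), (MA * MB)⁻¹ * (MB * MA)) ?_ ?_)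
      · exact mul_mem (inv_mem (mul_mem hLA hLB)) (mul_mem hLB hLA)
      · show (MA * MB)⁻¹ * (MB * MA) = 1
        rw [e, inv_mul_cancel]
    · have e2 : MA * MB * MA⁻¹ = -MB := by rw [e, neg_mul, mul_inv_cancel_right]
      have e3 : (1 : SL(2, F)) = -1 := by
        have := congrArg (· ^ 3) e2
        simp only [conj_pow, hcubeB, mul_one, mul_inv_cancel] at this
        rwa [neg_pow, hcubeB, mul_one, pow_three, neg_mul_neg, one_mul, mul_one] at this
      exact Forms.KleinPSL.ne_neg_self h2 1 e3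
  have hord : (A' * B') ^ 2 = 1 ∨ (A' * B') ^ 3 = 1 ∨ (A' * B') ^ 5 = 1 := by
    rcases Forms.DicksonCount.classify_coprime hT hN with h | ⟨c, -, h⟩ | h | h | h
    · haveI := h
      exact absurd ((inferInstance : IsMulCommutative H').is_comm.comm A' B') hnc
    · obtain ⟨e⟩ := h
      refine absurd ?_ hnc
      have := (dihedral_comm (e A') (e B') (by rw [← map_pow, hA3, map_one])
        (by rw [← map_pow, hB3, map_one])).map e.symm.toMonoidHom
      simpa using this
    · obtain ⟨e⟩ := h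
      rcases even_perm_four (e (A' * B') : Equiv.Perm (Fin 4)) (e (A' * B')).2 with k | k
      · exact Or.inl (e.injective (Subtype.ext (by rw [map_pow, map_one]; exact k)))
      · exact Or.inr (Or.inl (e.injective (Subtype.ext (by rw [map_pow, map_one]; exact k))))
    · obtain ⟨e⟩ := h
      rcases even_perm_four (e (A' * B')) (by
        rw [map_mul, map_mul, sign_eq_one_of_cube _ (by rw [← map_pow, hA3, map_one]),
          sign_eq_one_of_cube _ (by rw [← map_pow, hB3, map_one]), mul_one]) with k | k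
      · exact Or.inl (e.injective (by rw [map_pow, map_one]; exact k))
      · exact Or.inr (Or.inl (e.injective (by rw [map_pow, map_one]; exact k)))
    · obtain ⟨e⟩ := h
      rcases even_perm_five (e (A' * B') : Equiv.Perm (Fin 5)) (e (A' * B')).2 with k | k | k
      · exact Or.inl (e.injective (Subtype.ext (by rw [map_pow, map_one]; exact k)))
      · exact Or.inr (Or.inl (e.injective (Subtype.ext (by rw [map_pow, map_one]; exact k))))
      · exact Or.inr (Or.inr (e.injective (Subtype.ext (by rw [map_pow, map_one]; exact k))))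
  have lift : ∀ n, (A' * B') ^ n = 1 → (a * b) ^ (2 * n) = 1 := by
    intro n hn
    have h1 : Forms.KleinPSL.pi F ((MA * MB) ^ n) = 1 := by
      rw [map_pow, map_mul]
      exact congrArg Subtype.val hn
    refine hsnd ((a * b) ^ (2 * n), (MA * MB) ^ (2 * n)) ?_ ?_
    · exact pow_mem (mul_mem hLA hLB) (2 * n)
    · show (MA * MB) ^ (2 * n) = 1
      rcases Forms.KleinPSL.pi_eq_one.1 h1 with e | e <;>
        rw [mul_comm, pow_mul, e] <;> simp
  rcases hord with e | e | e
  · exact Or.inl (lift 2 e)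
  · exact Or.inr (Or.inl (lift 3 e))
  · exact Or.inr (Or.inr (lift 5 e))

/-- the algebraic hypotheses hold -/
theorem hyp_of_fixed (ρ : G →* Module.End (ZMod r) V)
    (hfix : ∀ g v, ρ g v = v → v ≠ 0 → g = 1) (h2r : r ≠ 2) (h3r : r ≠ 3) : Hyp ρ where
  unit _ := isUnit_sub_one ρ hfix
  nt := one_ne_zero
  two := by
    have h : (2 : ZMod r) ≠ 0 := by
      intro e
      have : r ∣ 2 := (ZMod.natCast_eq_zero_iff 2 r).1 (by exact_mod_cast e)
      exact h2r ((Nat.prime_dvd_prime_iff_eq hr.out Nat.prime_two).1 this)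
    have hu := (isUnit_iff_ne_zero.2 h).map (algebraMap (ZMod r) (Module.End (ZMod r) V))
    rwa [map_ofNat] at hu
  three := by
    have h : (3 : ZMod r) ≠ 0 := by
      intro e
      have : r ∣ 3 := (ZMod.natCast_eq_zero_iff 3 r).1 (by exact_mod_cast e)
      exact h3r ((Nat.prime_dvd_prime_iff_eq hr.out Nat.prime_three).1 this)
    have hu := (isUnit_iff_ne_zero.2 h).map (algebraMap (ZMod r) (Module.End (ZMod r) V))
    rwa [map_ofNat] at hu
  pair _ _ := pair_order ρ hfix h2r

end Finite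

end Cfsg.Agent.Perm.Fpf
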