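import Mathlib
import Cfsg.Agent.Lib.Perm.Fpf.PairRep
import Cfsg.Agent.Lib.Perm.Fpf.Pure
import Cfsg.Agent.Lib.Perm.Fpf.IcoIso
import Cfsg.Agent.Lib.Perm.NearField
import Cfsg.Agent.Lib.PGroups.UniqueSubgroup
import Cfsg.Agent.Lib.CharTheory.BrauerSuzuki.Complement
import Cfsg.Agent.Lib.Transfer.CenterInf
import Cfsg.Agent.S0106

/-!
# Zassenhaus: a perfect fixed-point-free linear group is `SL(2, 5)`
-/

set_option autoImplicit false

namespace Cfsg.Agent.Perm.Fpf

open scoped MatrixGroups

/-- A finite group without nontrivial perfect subgroups is solvable. -/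
theorem solvable_of_no_perfect {G : Type*} [Group G] [Finite G] (K : Subgroup G)
    (hK : ∀ L : Subgroup G, L ≤ K → commutator L = ⊤ → L = ⊥) : Group.IsSolvable K := by
  induction K using WellFoundedLT.induction with
  | _ K ih =>
    by_cases hc : commutator K = ⊤
    · have := hK K le_rfl hc
      subst this
      infer_instance
    · set C := (commutator K).map K.subtype with hC
      have hlt : C < K := by
        refine lt_of_le_of_ne (Subgroup.map_subtype_le _) fun e => hc ?_
        exact Subgroup.map_injective K.subtype_injective (e.trans (by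
          rw [← MonoidHom.range_eq_map, Subgroup.range_subtype]))
      haveI : Group.IsSolvable C := ih C hlt fun L hL => hK L (hL.trans hlt.le)
      haveI : Group.IsSolvable (commutator K) :=
        solvable_of_surjective (f := ((commutator K).equivMapOfInjective K.subtype
          K.subtype_injective).symm.toMonoidHom) (MulEquiv.surjective _)
      exact solvable_of_ker_le_range (commutator K).subtype (Abelianization.of (G := K))
        (by rw [Abelianization.ker_of, Subgroup.range_subtype])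

theorem hom_eq_one_of_perfect {G H : Type*} [Group G] [Group H] [IsMulCommutative H]
    (hperf : commutator G = ⊤) (φ : G →* H) (g : G) : φ g = 1 := by
  have h : commutator G ≤ φ.ker := by
    rw [commutator_eq_closure, Subgroup.closure_le]
    rintro x ⟨a, b, rfl⟩
    rw [SetLike.mem_coe, MonoidHom.mem_ker, map_commutatorElement,
      commutatorElement_eq_one_iff_mul_comm]
    exact IsMulCommutative.is_comm.comm _ _
  exact h (hperf ▸ Subgroup.mem_top g)

theorem mulAut_comm (A : Type*) [Group A] [Finite A] [IsCyclic A] :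
    IsMulCommutative (MulAut A) :=
  ⟨⟨fun x y => (IsCyclic.mulAutMulEquiv A).injective (by rw [map_mul, map_mul, mul_comm])⟩⟩

/-- a transvection in `SL(2, 3)` -/
def t3 : SL(2, ZMod 3) := ⟨!![1, 1; 0, 1], by simp [Matrix.det_fin_two_of]⟩

theorem t3_pow : t3 ^ 3 = 1 := by decide +kernel

theorem t3_ne : t3 ≠ 1 := by decide +kernel

theorem three_dvd_sl23 : 3 ∣ Nat.card (SL(2, ZMod 3)) := by
  haveI : Fact (Nat.Prime 3) := ⟨Nat.prime_three⟩
  have := orderOf_dvd_natCard t3
  rwa [orderOf_eq_prime t3_pow t3_ne] at this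

theorem not_perfect_of_solvable {G : Type*} [Group G] [Nontrivial G] [Group.IsSolvable G] :
    commutator G ≠ ⊤ :=
  (Group.IsSolvable.commutator_lt_top_of_nontrivial G).ne

section Linear

variable {G : Type*} [Group G] [Finite G] {r : ℕ} [hr : Fact r.Prime] {V : Type*}
  [AddCommGroup V] [Module (ZMod r) V] [Finite V] [Nontrivial V]
variable (ρ : G →* Module.End (ZMod r) V) (hfix : ∀ g v, ρ g v = v → v ≠ 0 → g = 1)

include hfix

/-- abelian subgroups are cyclic -/
theorem isCyclic_of_abelian (K : Subgroup G) (hK : IsMulCommutative K) : IsCyclic K := by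
  obtain ⟨W, ⟨hinvW, hW0⟩, hmin⟩ := wellFounded_lt.has_min
    {W : Submodule (ZMod r) V | (∀ k : K, ∀ w ∈ W, ρ k w ∈ W) ∧ W ≠ ⊥}
    ⟨⊤, fun _ _ _ => Submodule.mem_top, top_ne_bot⟩
  haveI : Nontrivial W := Submodule.nontrivial_iff_ne_bot.2 hW0
  let res : K →* Module.End (ZMod r) W :=
    { toFun := fun k => (ρ (k : G)).restrict fun x hx => hinvW k x hx
      map_one' := LinearMap.ext fun x => Subtype.ext (by simp)
      map_mul' := fun a b => LinearMap.ext fun x => Subtype.ext (by simp) }
  have hirr : ∀ S : Submodule (ZMod r) W, (∀ s ∈ Set.range res, ∀ w ∈ S, s w ∈ S) →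
      S = ⊥ ∨ S = ⊤ := by
    intro S hS
    refine or_iff_not_imp_left.2 fun hne => ?_
    have hinv : ∀ k : K, ∀ v ∈ S.map W.subtype, ρ k v ∈ S.map W.subtype := by
      rintro k _ ⟨x, hx, rfl⟩
      exact ⟨res k x, hS _ ⟨_, rfl⟩ x hx, rfl⟩
    have hne' : S.map W.subtype ≠ ⊥ := fun e => hne
      (Submodule.map_injective_of_injective W.injective_subtype (e.trans (Submodule.map_bot _).symm))
    have e := (Submodule.map_subtype_le W S).eq_or_lt.resolve_right (hmin _ ⟨hinv, hne'⟩)
    refine Submodule.map_injective_of_injective W.injective_subtype (e.trans ?_)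
    rw [Submodule.map_top, Submodule.range_subtype]
  let C := Subalgebra.centralizer (ZMod r) (Set.range res)
  have hmem : ∀ k, res k ∈ C := fun k => by
    rw [Subalgebra.mem_centralizer_iff]
    rintro _ ⟨l, rfl⟩
    rw [← map_mul, ← map_mul, hK.is_comm.comm]
  letI : CommRing C :=
    { (inferInstance : Ring C) with
      mul_comm := fun x y => Subtype.ext (NearField.centralizer_comm _ hirr x.2 y.2) }
  haveI : IsDomain C := by
    haveI : NoZeroDivisors C := ⟨fun {x y} hxy => or_iff_not_imp_left.2 fun hx => by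
      refine Subtype.ext (LinearMap.ext fun w => ?_)
      have hw : (x : Module.End (ZMod r) W) ((y : Module.End (ZMod r) W) w) = 0 :=
        LinearMap.congr_fun (congrArg Subtype.val hxy) w
      rcases hirr (LinearMap.ker (x : Module.End (ZMod r) W)) (fun s hs z hz => by
        have h' := LinearMap.congr_fun ((Subalgebra.mem_centralizer_iff _).1 x.2 s hs) z
        simp only [Module.End.mul_apply] at h'
        rw [LinearMap.mem_ker] at hz ⊢
        rw [← h', hz, map_zero]) with h | h
      · exact LinearMap.ker_eq_bot'.1 h _ hw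
      · exact absurd (Subtype.ext (LinearMap.ker_eq_top.1 h)) hx⟩
    exact NoZeroDivisors.to_isDomain _
  refine isCyclic_of_subgroup_isDomain
    ({ toFun := fun k => ⟨res k, hmem k⟩
       map_one' := Subtype.ext (map_one res)
       map_mul' := fun a b => Subtype.ext (map_mul res a b) } : K →* C) ?_
  refine (injective_iff_map_eq_one _).2 fun k hk => ?_
  obtain ⟨w, hw, hw0⟩ := Submodule.exists_mem_ne_zero_of_ne_bot hW0
  exact Subtype.ext (hfix k w
    (congrArg Subtype.val (LinearMap.congr_fun (congrArg Subtype.val hk) ⟨w, hw⟩)) hw0)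

theorem pgroup_shape {p : ℕ} [hp : Fact p.Prime] (P : Subgroup G) (hP : IsPGroup p P) :
    IsCyclic P ∨ (p = 2 ∧ ∃ n : ℕ, Nonempty (P ≃* QuaternionGroup (2 ^ n))) := by
  rcases subsingleton_or_nontrivial P with hs | hs
  · exact Or.inl isCyclic_of_subsingleton
  obtain ⟨z, hz, hzo⟩ : ∃ z : P, z ∈ Subgroup.center P ∧ orderOf z = p := by
    have hd : p ∣ Nat.card (Subgroup.center P) := by
      haveI : Nontrivial (Subgroup.center P) := hP.center_nontrivial
      obtain ⟨k, hk, hk'⟩ := (hP.to_subgroup (Subgroup.center P)).nontrivial_iff_card.1 inferInstance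
      exact hk' ▸ dvd_pow_self p hk.ne'
    obtain ⟨z, hz⟩ := exists_prime_orderOf_dvd_card' p hd
    exact ⟨z, z.2, (Subgroup.orderOf_coe z).trans hz⟩
  have hmem : ∀ y : P, orderOf y = p → y ∈ Subgroup.zpowers z := by
    intro y hy
    set K : Subgroup G := Subgroup.closure {(z : G), (y : G)}
    have hc : (z : G) * y = y * z := congrArg Subtype.val (Subgroup.mem_center_iff.1 hz y).symm
    have hKc : IsMulCommutative K := Subgroup.isMulCommutative_closure (by
      rintro a (rfl | rfl) b (rfl | rfl)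
      exacts [rfl, hc, hc.symm, rfl])
    haveI : IsCyclic K := isCyclic_of_abelian ρ hfix K hKc
    have hzK : (z : G) ∈ K := Subgroup.subset_closure (Or.inl rfl)
    have hyK : (y : G) ∈ K := Subgroup.subset_closure (Or.inr rfl)
    have h := Cfsg.Agent.CharTheory.BrauerSuzuki.subgroup_eq_of_card
      (Subgroup.zpowers (⟨z, hzK⟩ : K)) (Subgroup.zpowers (⟨y, hyK⟩ : K)) (by
        simp only [Nat.card_zpowers, Subgroup.orderOf_mk, Subgroup.orderOf_coe, hzo, hy])
    obtain ⟨m, hm⟩ := (h ▸ Subgroup.mem_zpowers _ :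
      (⟨y, hyK⟩ : K) ∈ Subgroup.zpowers (⟨z, hzK⟩ : K))
    exact ⟨m, Subtype.ext (by simpa using congrArg Subtype.val hm)⟩
  have hall : ∀ S : Subgroup P, Nat.card S = p → S = Subgroup.zpowers z := by
    intro S hS
    refine Subgroup.eq_of_le_of_card_ge (fun y hy => ?_) (by rw [hS, Nat.card_zpowers, hzo])
    rcases (Nat.dvd_prime hp.out).1 (hS ▸ Subgroup.orderOf_dvd_natCard S hy) with h1 | h1
    · rw [orderOf_eq_one_iff.1 h1]; exact one_mem _
    · exact hmem y h1
  exact Cfsg.Agent.PGroups.UniqueSubgroup.isCyclic_or_quaternion hP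
    (fun S T hS hT => (hall S hS).trans (hall T hT).symm)

theorem six_dvd (hperf : commutator G = ⊤) [Nontrivial G] :
    2 ∣ Nat.card G ∧ 3 ∣ Nat.card G := by
  classical
  by_cases hall : ∀ P : Sylow 2 G, IsCyclic (P : Subgroup G)
  · exfalso
    haveI : IsZGroup G := by
      refine ⟨fun p hp P => ?_⟩
      haveI := Fact.mk hp
      rcases pgroup_shape ρ hfix (P : Subgroup G) P.2 with h | ⟨rfl, -⟩
      · exact h
      · exact hall P
    exact not_perfect_of_solvable hperf
  obtain ⟨P, hP⟩ := not_forall.1 hall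
  obtain ⟨-, n, ⟨e⟩⟩ := (pgroup_shape ρ hfix (P : Subgroup G) P.2).resolve_left hP
  have h2 : 2 ∣ Nat.card G := by
    refine dvd_trans ?_ (P : Subgroup G).card_subgroup_dvd_card
    rw [Nat.card_congr e.toEquiv, Nat.card_eq_fintype_card, QuaternionGroup.card]
    omega
  have hn : 1 ≤ n := by
    by_contra hn
    obtain rfl : n = 0 := by omega
    refine hP (isCyclic_of_orderOf_eq_card (e.symm (QuaternionGroup.xa 0)) ?_)
    rw [MulEquiv.orderOf_eq, Nat.card_congr e.toEquiv, QuaternionGroup.orderOf_xa,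
      Nat.card_eq_fintype_card, QuaternionGroup.card]
    norm_num
  refine ⟨h2, ?_⟩
  rcases S0106.result P n hn ⟨e⟩ with ⟨Q, N, hN, hc⟩ | ⟨H, K, hK, ⟨i⟩⟩
  · exfalso
    haveI := hN
    have hQ : IsPGroup 2 (G ⧸ N) :=
      Q.2.of_equiv (hc.symm.QuotientMulEquiv).symm
    haveI := hQ.isNilpotent
    haveI : Nontrivial (G ⧸ N) := by
      have h1 : (Q : Subgroup G) ≠ ⊥ := Q.ne_bot_of_dvd_card h2
      have h2 : Nontrivial (Q : Subgroup G) := (Subgroup.nontrivial_iff_ne_bot _).2 h1
      exact (hc.symm.QuotientMulEquiv).toEquiv.nontrivial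
    refine not_perfect_of_solvable (G := G ⧸ N) ?_
    rw [eq_top_iff]
    intro x _
    obtain ⟨y, rfl⟩ := QuotientGroup.mk'_surjective N x
    have hy : y ∈ commutator G := hperf ▸ Subgroup.mem_top y
    have := Subgroup.mem_map_of_mem (QuotientGroup.mk' N) hy
    rw [commutator_def, Subgroup.map_commutator,
      Subgroup.map_top_of_surjective _ (QuotientGroup.mk'_surjective N), ← commutator_def] at this
    exact this
  · have h3 : 3 ∣ Nat.card (SL(2, ZMod 3)) := three_dvd_sl23
    rw [← Nat.card_congr i.toEquiv] at h3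
    exact h3.trans ((Subgroup.card_quotient_dvd_card _).trans H.card_subgroup_dvd_card)

theorem hyp_of_perfect (hperf : commutator G = ⊤) [Nontrivial G] : Hyp ρ := by
  obtain ⟨h2, h3⟩ := six_dvd ρ hfix hperf
  exact hyp_of_fixed ρ hfix (fun e => not_dvd_card ρ hfix (e ▸ h2))
    (fun e => not_dvd_card ρ hfix (e ▸ h3))

theorem exists_pair (hperf : commutator G = ⊤) [Nontrivial G] :
    ∃ a b : G, Ord3 a ∧ Ord3 b ∧ ¬ Commute a b := by
  have h := hyp_of_perfect ρ hfix hperf
  haveI : Fact (Nat.Prime 3) := ⟨Nat.prime_three⟩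
  obtain ⟨a, ha⟩ := exists_prime_orderOf_dvd_card' 3 (six_dvd ρ hfix hperf).2
  have ha3 : Ord3 a := ⟨by rw [← ha, pow_orderOf_eq_one], fun e => by simp [e] at ha⟩
  by_contra! hall
  have hconj : ∀ g : G, g * a * g⁻¹ = a ∨ g * a * g⁻¹ = a⁻¹ := fun g =>
    h.eq_or_inv_of_commute ha3 (ha3.conj g) (hall _ _ ha3 (ha3.conj g))
  set A := Subgroup.zpowers a
  haveI hA : A.Normal := by
    refine ⟨fun x hx g => ?_⟩
    obtain ⟨k, rfl⟩ := hx
    show g * a ^ k * g⁻¹ ∈ A
    rw [← conj_zpow]
    rcases hconj g with e | e <;> rw [e]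
    · exact Subgroup.zpow_mem _ (Subgroup.mem_zpowers a) k
    · exact Subgroup.zpow_mem _ (inv_mem (Subgroup.mem_zpowers a)) k
  haveI := mulAut_comm A
  have hcen : a ∈ Subgroup.center G := Subgroup.mem_center_iff.2 fun g => by
    have e := congrArg Subtype.val (DFunLike.congr_fun
      (hom_eq_one_of_perfect hperf (MulAut.conjNormal (H := A)) g)
      (⟨a, Subgroup.mem_zpowers a⟩ : A))
    rw [MulAut.conjNormal_apply] at e
    exact mul_inv_eq_iff_eq_mul.1 e
  obtain ⟨P⟩ : Nonempty (Sylow 3 G) := inferInstance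
  haveI : IsCyclic (P : Subgroup G) := by
    rcases pgroup_shape ρ hfix (P : Subgroup G) P.2 with h | ⟨e, -⟩
    · exact h
    · norm_num at e
  have haP : a ∈ (P : Subgroup G) := by
    obtain ⟨Q, hQ⟩ := (IsPGroup.of_card (n := 1) (by rw [Nat.card_zpowers, ha, pow_one]) :
      IsPGroup 3 A).exists_le_sylow
    obtain ⟨g, hg⟩ := MulAction.exists_smul_eq G Q P
    rw [← hg, Sylow.smul_def]
    refine Subgroup.mem_pointwise_smul_iff_inv_smul_mem.2 ?_
    rw [MulAut.smul_def, ← map_inv, MulAut.conj_apply,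
      Subgroup.mem_center_iff.1 hcen, mul_inv_cancel_right]
    exact hQ (Subgroup.mem_zpowers a)
  have hcop : Nat.Coprime (Nat.card (P : Subgroup G)) (P : Subgroup G).index := P.card_coprime_index
  have hbot := Cfsg.Agent.Transfer.CenterInf.inf_commutator_inf_center (P : Subgroup G) hcop
  have : a ∈ (P : Subgroup G) ⊓ commutator G ⊓ Subgroup.center G :=
    ⟨⟨haP, hperf ▸ Subgroup.mem_top a⟩, hcen⟩
  rw [hbot] at this
  exact ha3.2 (Subgroup.mem_bot.1 this)

omit hfix in
theorem restrict_fixed (hfix : ∀ g v, ρ g v = v → v ≠ 0 → g = 1) (K : Subgroup G) :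
    ∀ g v, (ρ.comp K.subtype) g v = v → v ≠ 0 → g = 1 :=
  fun g v e hv => Subtype.ext (hfix g v e hv)

theorem centralizer_solvable (h : Hyp ρ) {a : G} (ha : Ord3 a) :
    Group.IsSolvable (Subgroup.centralizer ({a} : Set G)) := by
  refine solvable_of_no_perfect _ fun L hL hLp => by_contra fun hne => ?_
  haveI : Nontrivial L := (Subgroup.nontrivial_iff_ne_bot L).2 hne
  obtain ⟨x, y, hx, hy, hxy⟩ := exists_pair (ρ.comp L.subtype) (restrict_fixed ρ hfix L) hLp
  have key : ∀ z : L, Ord3 z → (z : G) = a ∨ (z : G) = a⁻¹ := fun z hz =>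
    h.eq_or_inv_of_commute ha
      ⟨by rw [← SubgroupClass.coe_pow, hz.1, Subgroup.coe_one], fun e => hz.2 (Subtype.ext e)⟩
      (Subgroup.mem_centralizer_singleton_iff.1 (hL z.2) : (z : G) * a = a * z).symm
  apply hxy
  have : Commute (x : G) (y : G) := by
    rcases key x hx with e | e <;> rcases key y hy with f | f <;> rw [e, f]
    · exact (Commute.refl a).inv_right
    · exact (Commute.refl a).inv_left
  exact Subtype.ext this

/-- a set containing every element of order three generates a perfect group -/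
theorem closure_eq_top (hperf : commutator G = ⊤) [Nontrivial G] {a : G} (ha : Ord3 a)
    (L : Subgroup G) (hL : ∀ c, Ord3 c → c ∈ L) : L = ⊤ := by
  have h := hyp_of_perfect ρ hfix hperf
  set M := Subgroup.closure {c : G | Ord3 c}
  suffices hM : M = ⊤ by
    rw [eq_top_iff, ← hM, Subgroup.closure_le]
    exact hL
  haveI : M.Normal := Subgroup.normalizer_eq_top_iff.1 <| top_le_iff.1 <|
    Subgroup.le_normalizer_closure_iff.2 fun g _ c hc => Subgroup.subset_closure (hc.conj g)
  haveI : Fact (Nat.Prime 3) := ⟨Nat.prime_three⟩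
  have haM : a ∈ M := Subgroup.subset_closure ha
  have hoa : orderOf a = 3 := orderOf_eq_prime ha.1 ha.2
  have hoa' : Nat.card (Subgroup.zpowers (⟨a, haM⟩ : M)) = 3 ^ 1 := by
    rw [Nat.card_zpowers, pow_one, ← Subgroup.orderOf_coe]
    exact hoa
  obtain ⟨P, hP⟩ := (IsPGroup.of_card hoa').exists_le_sylow
  set Q := (P : Subgroup M).map M.subtype with hQ
  haveI : IsCyclic Q := by
    rcases pgroup_shape ρ hfix Q (P.2.map M.subtype) with h | ⟨e, -⟩
    · exact h
    · norm_num at e
  have haQ : a ∈ Q := ⟨⟨a, haM⟩, hP (Subgroup.mem_zpowers _), rfl⟩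
  let N := Subgroup.normalizer (Q : Set G)
  have hFr : N ⊔ M = ⊤ := Sylow.normalizer_sup_eq_top P
  haveI := centralizer_solvable ρ hfix h ha
  haveI := mulAut_comm Q
  haveI : Group.IsSolvable (MulAut Q) :=
    isSolvable_of_comm fun x y => IsMulCommutative.is_comm.comm x y
  haveI : Group.IsSolvable (Subgroup.centralizer ({a} : Set G) ⊓ N : Subgroup G) :=
    solvable_of_solvable_injective
      (Subgroup.inclusion_injective (inf_le_left (b := N) (a := Subgroup.centralizer ({a} : Set G))))
  haveI : Group.IsSolvable N := by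
    refine solvable_of_ker_le_range
      (f := Subgroup.inclusion (inf_le_right :
        Subgroup.centralizer ({a} : Set G) ⊓ N ≤ N)) (g := Subgroup.normalizerMonoidHom Q) ?_
    intro x hx
    refine ⟨⟨x, ?_, x.2⟩, rfl⟩
    rw [Subgroup.normalizerMonoidHom_ker, Subgroup.mem_subgroupOf,
      Subgroup.mem_centralizer_iff] at hx
    exact Subgroup.mem_centralizer_singleton_iff.2 (hx a haQ).symm
  let f : N →* G ⧸ M := (QuotientGroup.mk' M).comp N.subtype
  have hf : Function.Surjective f := by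
    rw [← MonoidHom.range_eq_top, MonoidHom.range_comp, Subgroup.range_subtype]
    have e : (N ⊔ M).map (QuotientGroup.mk' M) = ⊤ := by
      rw [hFr, Subgroup.map_top_of_surjective _ (QuotientGroup.mk'_surjective M)]
    rwa [Subgroup.map_sup, QuotientGroup.map_mk'_self, sup_bot_eq] at e
  haveI : Group.IsSolvable (G ⧸ M) := solvable_of_surjective hf
  by_contra hne
  haveI : Nontrivial (G ⧸ M) := QuotientGroup.nontrivial_iff.2 hne
  refine not_perfect_of_solvable (G := G ⧸ M) ?_
  have e := congrArg (Subgroup.map (QuotientGroup.mk' M)) hperf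
  rwa [commutator_def, Subgroup.map_commutator,
    Subgroup.map_top_of_surjective _ (QuotientGroup.mk'_surjective M), ← commutator_def] at e

theorem tet_closure_ne_top (h : Hyp ρ) (hperf : commutator G = ⊤) [Nontrivial G] {a gI gJ : G}
    (T : Tet ρ a gI gJ) : Subgroup.closure ({a, gI, gJ} : Set G) ≠ ⊤ := by
  intro htop
  have F := T.frame
  set I := ρ gI with hI
  set J := ρ gJ with hJ
  let S : Set (Module.End (ZMod r) V) := {1, -1, I, -I, J, -J, I * J, -(I * J)}
  have hS : ∀ x ∈ S, ∀ y ∈ S, x * y ∈ S := by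
    intro x hx y hy
    simp only [S, Set.mem_insert_iff, Set.mem_singleton_iff] at hx hy ⊢
    rcases hx with rfl | rfl | rfl | rfl | rfl | rfl | rfl | rfl <;>
      rcases hy with rfl | rfl | rfl | rfl | rfl | rfl | rfl | rfl <;>
      simp [mul_assoc, F.II, F.JJ, F.JI, F.II', F.JJ', F.JI']
  let Qm : Submonoid G :=
    { carrier := {g | ρ g ∈ S}
      one_mem' := by simp [S]
      mul_mem' := fun {x y} hx hy => by
        show ρ (x * y) ∈ S
        rw [map_mul]; exact hS _ hx _ hy }
  let Q : Subgroup G :=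
    { Qm with
      inv_mem' := fun {x} hx => by
        have e : x⁻¹ = x ^ (orderOf x - 1) := inv_eq_of_mul_eq_one_right (by
          rw [← pow_succ', Nat.sub_add_cancel (orderOf_pos x), pow_orderOf_eq_one])
        rw [e]
        exact pow_mem (show x ∈ Qm from hx) _ }
  have hmemQ : ∀ x, x ∈ Q ↔ ρ x ∈ S := fun _ => Iff.rfl
  have hQ2 : IsPGroup 2 Q := fun x => ⟨2, Subtype.ext (h.inj (by
    have hx : ρ (x : G) ∈ S := x.2
    rw [SubgroupClass.coe_pow, map_pow]
    have e : ρ (x : G) ^ 2 ^ 2 = (ρ (x : G) * ρ (x : G)) * (ρ (x : G) * ρ (x : G)) := by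
      rw [show 2 ^ 2 = 2 + 2 from rfl, pow_add, pow_two]
    rw [e]
    simp only [S, Set.mem_insert_iff, Set.mem_singleton_iff] at hx
    rcases hx with e | e | e | e | e | e | e | e <;> rw [e] <;>
      simp [mul_assoc, F.II, F.JJ, F.JI, F.II', F.JJ', F.JI']))⟩
  have hK : ρ a⁻¹ * (I * J) * ρ a = I := by
    calc ρ a⁻¹ * (I * J) * ρ a = (ρ a⁻¹ * I * ρ a) * (ρ a⁻¹ * J * ρ a) := by
          simp only [mul_assoc]
          rw [← mul_assoc (ρ a) (ρ a⁻¹), map_mul_inv_cancel, one_mul]
      _ = _ := by rw [hI, hJ, T.rot_I h, T.rot_J h, ← mul_assoc, F.JI, neg_mul, F.IJJ, neg_neg]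
  have hrot : ∀ x ∈ Q, a⁻¹ * x * a ∈ Q := by
    intro x hx
    rw [hmemQ] at hx ⊢
    rw [map_mul, map_mul]
    simp only [S, Set.mem_insert_iff, Set.mem_singleton_iff] at hx ⊢
    rcases hx with e | e | e | e | e | e | e | e <;> rw [e] <;>
      simp [hI, hJ, T.rot_I h, T.rot_J h, (hI ▸ hJ ▸ hK : ρ a⁻¹ * (ρ gI * ρ gJ) * ρ a = ρ gI),
        map_inv_mul_cancel']
  have hQn : Q.Normal := by
    rw [← Subgroup.normalizer_eq_top_iff, eq_top_iff, ← htop, Subgroup.closure_le]
    rintro g (rfl | rfl | rfl)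
    · rw [SetLike.mem_coe, Subgroup.mem_normalizer_iff]
      intro x
      refine ⟨fun hx => ?_, fun hx => ?_⟩
      · have := hrot _ (hrot x hx)
        have hg : g⁻¹ * (g⁻¹ * x * g) * g = g * x * g⁻¹ := by
          have h3 := T.a3.inv_eq
          calc g⁻¹ * (g⁻¹ * x * g) * g = (g⁻¹ * g⁻¹) * x * (g * g) := by group
            _ = g * x * g⁻¹ := by
              rw [← h3, show g⁻¹ * g⁻¹ = g by rw [← mul_inv_rev, ← h3, inv_inv]]
        rwa [hg] at this
      · have := hrot _ hx
        simpa [mul_assoc] using this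
    · exact Subgroup.le_normalizer (by simp [hmemQ, S, hI])
    · exact Subgroup.le_normalizer (by simp [hmemQ, S, hJ])
  haveI := hQn
  haveI : IsCyclic (G ⧸ Q) := by
    refine isCyclic_iff_exists_zpowers_eq_top.2 ⟨QuotientGroup.mk' Q a, ?_⟩
    rw [eq_top_iff, ← Subgroup.map_top_of_surjective _ (QuotientGroup.mk'_surjective Q), ← htop,
      MonoidHom.map_closure, Subgroup.closure_le]
    rintro _ ⟨g, (rfl | rfl | rfl), rfl⟩
    · exact Subgroup.mem_zpowers _
    · rw [show QuotientGroup.mk' Q g = 1 from (QuotientGroup.eq_one_iff g).2 (by simp [hmemQ, S, hI])]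
      exact one_mem _
    · rw [show QuotientGroup.mk' Q g = 1 from (QuotientGroup.eq_one_iff g).2 (by simp [hmemQ, S, hJ])]
      exact one_mem _
  have hQtop : Q = ⊤ := eq_top_iff.2 fun g _ =>
    (QuotientGroup.eq_one_iff g).1 (hom_eq_one_of_perfect hperf (QuotientGroup.mk' Q) g)
  haveI := hQ2.isNilpotent
  haveI : Group.IsSolvable G :=
    solvable_of_surjective (f := Q.subtype) (fun g => ⟨⟨g, hQtop ▸ Subgroup.mem_top g⟩, rfl⟩)
  exact not_perfect_of_solvable hperf

/-- generators of a perfect fixed-point-free group in golden normal form -/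
theorem exists_gold (hperf : commutator G = ⊤) [Nontrivial G] :
    ∃ a gI gJ d : G, ∃ ω : Module.End (ZMod r) V, Tet ρ a gI gJ ∧ Gold ρ gI gJ d ω ∧
      Subgroup.closure ({gI, a, d} : Set G) = ⊤ := by
  have h := hyp_of_perfect ρ hfix hperf
  obtain ⟨a, b, ha, hb, hab⟩ := exists_pair ρ hfix hperf
  obtain ⟨gI, gJ, T, -, -⟩ := h.exists_tet ha hb hab
  obtain ⟨c, hc, hcn⟩ : ∃ c, Ord3 c ∧ ¬ Reach a gI gJ c a := by
    by_contra! hall
    refine tet_closure_ne_top ρ hfix h hperf T
      (closure_eq_top ρ hfix hperf ha _ fun c hc => ?_)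
    obtain ⟨g, hg, e | e⟩ := (hall c hc).symm
    · exact e ▸ mul_mem (mul_mem hg mem_a) (inv_mem hg)
    · exact e ▸ mul_mem (mul_mem hg (inv_mem mem_a)) (inv_mem hg)
  obtain ⟨d, ω, hcd, hd⟩ := (T.normal_form h hc).resolve_left hcn
  refine ⟨a, gI, gJ, d, ω, T, hd, closure_eq_top ρ hfix hperf ha _ fun x hx => ?_⟩
  set L := Subgroup.closure ({gI, a, d} : Set G)
  have haL : a ∈ L := Subgroup.subset_closure (Or.inr (Or.inl rfl))
  have hIL : gI ∈ L := Subgroup.subset_closure (Or.inl rfl)
  have hJL : gJ ∈ L := T.rot ▸ mul_mem (mul_mem (inv_mem haL) hIL) haL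
  have hdL : d ∈ L := Subgroup.subset_closure (Or.inr (Or.inr rfl))
  have hKL : Subgroup.closure ({a, gI, gJ} : Set G) ≤ L := (Subgroup.closure_le _).2 (by
    rintro y (rfl | rfl | rfl) <;> assumption)
  have hreach : ∀ y z, y ∈ L → Reach a gI gJ y z → z ∈ L := by
    rintro y z hy ⟨g, hg, rfl | rfl⟩
    · exact mul_mem (mul_mem (hKL hg) hy) (inv_mem (hKL hg))
    · exact mul_mem (mul_mem (hKL hg) (inv_mem hy)) (inv_mem (hKL hg))
  rcases T.normal_form h hx with hr' | ⟨x', α, hr', hx'⟩
  · exact hreach a x haL hr'.symm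
  · have : x' = d := T.gold_unique h (hr'.ord3 hx) (hcd.ord3 hc) hx' hd
    exact hreach d x hdL (this ▸ hr'.symm)

/-- Zassenhaus -/
theorem iso_sl25 (hperf : commutator G = ⊤) [Nontrivial G] : Nonempty (G ≃* SL(2, ZMod 5)) := by
  obtain ⟨a, gI, gJ, d, ω, T, hd, hgen⟩ := exists_gold ρ hfix hperf
  exact iso_of_gold (hyp_of_perfect ρ hfix hperf) T hd hgen

end Linear

end Cfsg.Agent.Perm.Fpf
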