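import Mathlib
import Cfsg.Agent.Lib.Perm.Fpf.Main

/-!
# Zassenhaus' theorem for automorphisms of an elementary abelian group
-/

set_option autoImplicit false

namespace Cfsg.Agent.Perm.Fpf

open scoped MatrixGroups

theorem iso_sl25_of_addHom {G V : Type*} [Group G] [Finite G] [Nontrivial G] [AddCommGroup V]
    [Finite V] [Nontrivial V] {r : ℕ} [Fact r.Prime] [Module (ZMod r) V] (f : G → V →+ V)
    (h1 : ∀ x, f 1 x = x) (hmul : ∀ a b x, f (a * b) x = f a (f b x))
    (hfix : ∀ g v, f g v = v → v ≠ 0 → g = 1) (hperf : commutator G = ⊤) :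
    Nonempty (G ≃* SL(2, ZMod 5)) := by
  let ρ : G →* Module.End (ZMod r) V :=
    { toFun := fun g => (f g).toZModLinearMap r
      map_one' := LinearMap.ext fun x => h1 x
      map_mul' := fun a b => LinearMap.ext fun x => hmul a b x }
  exact iso_sl25 ρ hfix hperf

/-- A perfect group acting without fixed points on a nontrivial elementary abelian group is
`SL(2, 5)`. -/
theorem iso_sl25_of_aut {G W : Type*} [Group G] [Finite G] [Nontrivial G] [CommGroup W] [Finite W]
    [Nontrivial W] {r : ℕ} [Fact r.Prime] (hW : ∀ w : W, w ^ r = 1) (φ : G →* MulAut W)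
    (hfix : ∀ g w, φ g w = w → w ≠ 1 → g = 1) (hperf : commutator G = ⊤) :
    Nonempty (G ≃* SL(2, ZMod 5)) := by
  letI : Module (ZMod r) (Additive W) := AddCommGroup.zmodModule fun x => hW x.toMul
  refine iso_sl25_of_addHom (V := Additive W) (r := r)
    (fun g => MonoidHom.toAdditive (φ g).toMonoidHom) (fun x => ?_) (fun a b x => ?_)
    (fun g v hv hv0 => hfix g v.toMul (congrArg Additive.toMul hv) ?_) hperf
  · show Additive.ofMul (φ 1 x.toMul) = x
    rw [map_one]
    rfl
  · show Additive.ofMul (φ (a * b) x.toMul) = Additive.ofMul (φ a (φ b x.toMul))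
    rw [map_mul]
    rfl
  · exact fun e => hv0 (Additive.toMul.injective e)

end Cfsg.Agent.Perm.Fpf
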